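import Mathlib

set_option autoImplicit false

/-! Burnside counting for transitive actions: fixed point numbers, rank, Cameron–Cohen key identity. -/

namespace Cfsg.Agent.Lib.Helper8

open MulAction


variable {G Ω : Type*} [Group G] [MulAction G Ω]

/-- number of fixed points as a Finset card -/
noncomputable def fixN [Fintype Ω] [DecidableEq Ω] (g : G) : ℕ := (Finset.univ.filter fun ω : Ω => g • ω = ω).card

theorem sum_fixN [Fintype G] [Fintype Ω] [DecidableEq Ω] [IsPretransitive G Ω] [Nonempty Ω] :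
    ∑ g : G, fixN (Ω := Ω) g = Fintype.card G := by
  classical
  have h := sum_card_fixedBy_eq_card_orbits_mul_card_group G Ω
  have h1 : Fintype.card (orbitRel.Quotient G Ω) = 1 := by
    rw [Fintype.card_eq_one_iff_nonempty_unique]
    have : Subsingleton (orbitRel.Quotient G Ω) := (pretransitive_iff_subsingleton_quotient G Ω).mp inferInstance
    exact ⟨@Unique.mk' _ ⟨Quotient.mk'' (Classical.arbitrary Ω)⟩ this⟩
  rw [h1, one_mul] at h
  rw [← h]
  apply Finset.sum_congr rfl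
  intro g _
  unfold fixN
  rw [Fintype.card_subtype]
  rfl

theorem sum_fixN_sq [Fintype G] [Fintype Ω] [DecidableEq Ω] :
    ∑ g : G, fixN (Ω := Ω) g ^ 2 = Nat.card (orbitRel.Quotient G (Ω × Ω)) * Fintype.card G := by
  classical
  have : Fintype (orbitRel.Quotient G (Ω × Ω)) := Fintype.ofFinite _
  have h := sum_card_fixedBy_eq_card_orbits_mul_card_group G (Ω × Ω)
  rw [Nat.card_eq_fintype_card, ← h]
  apply Finset.sum_congr rfl
  intro g _
  unfold fixN
  rw [Fintype.card_subtype, pow_two, ← Finset.card_product]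
  congr 1
  ext ⟨a, b⟩
  simp [Prod.ext_iff]




theorem two_le_rank [Fintype Ω] (hn : 2 ≤ Fintype.card Ω) [Finite G] :
    2 ≤ Nat.card (orbitRel.Quotient G (Ω × Ω)) := by
  classical
  have : Fintype (orbitRel.Quotient G (Ω × Ω)) := Fintype.ofFinite _
  rw [Nat.card_eq_fintype_card]
  obtain ⟨α, β, hαβ⟩ := Fintype.exists_pair_of_one_lt_card (by omega : 1 < Fintype.card Ω)
  apply Fintype.one_lt_card_iff.mpr
  refine ⟨Quotient.mk'' (α, α), Quotient.mk'' (α, β), ?_⟩
  intro h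
  have h' := Quotient.exact' h
  rw [orbitRel_apply] at h'
  obtain ⟨g, hg⟩ := h'
  have h1 : g • α = α := by
    have := congrArg Prod.fst hg; simpa using this
  have h2 : g • β = α := by
    have := congrArg Prod.snd hg; simpa using this
  exact hαβ ((smul_left_cancel g (h1.trans h2.symm)))

theorem fixN_le [Fintype Ω] [DecidableEq Ω] (g : G) : fixN (Ω := Ω) g ≤ Fintype.card Ω := by
  unfold fixN
  exact Finset.card_le_univ _

theorem fixN_eq_zero_iff [Fintype Ω] [DecidableEq Ω] (g : G) :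
    fixN (Ω := Ω) g = 0 ↔ ∀ ω : Ω, g • ω ≠ ω := by
  unfold fixN
  rw [Finset.card_eq_zero, Finset.filter_eq_empty_iff]
  simp

/-- The key inequality `(r - 1)|G| ≤ n |D|` and the equality analysis. -/
theorem key_ineq [Fintype G] [Fintype Ω] [DecidableEq Ω] [IsPretransitive G Ω] [Nonempty Ω]
    (r : ℕ) (hr : r = Nat.card (orbitRel.Quotient G (Ω × Ω))) :
    ((r : ℤ) - 1) * Fintype.card G +
      ∑ g ∈ (Finset.univ.filter fun g : G => ¬ ∀ ω : Ω, g • ω ≠ ω),
        -(((fixN (Ω := Ω) g : ℤ) - 1) * ((fixN (Ω := Ω) g : ℤ) - Fintype.card Ω)) =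
      (Fintype.card Ω : ℤ) * (Finset.univ.filter fun g : G => ∀ ω : Ω, g • ω ≠ ω).card := by
  have h1 : (∑ g : G, (fixN (Ω := Ω) g : ℤ)) = Fintype.card G := by
    exact_mod_cast sum_fixN (G := G) (Ω := Ω)
  have h2 : (∑ g : G, (fixN (Ω := Ω) g : ℤ) ^ 2) = (r : ℤ) * Fintype.card G := by
    rw [hr]; exact_mod_cast sum_fixN_sq (G := G) (Ω := Ω)
  have h3 : ∑ g : G, (((fixN (Ω := Ω) g : ℤ) - 1) * ((fixN (Ω := Ω) g : ℤ) - Fintype.card Ω)) =
      ((r : ℤ) - 1) * Fintype.card G := by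
    have : ∀ g : G, (((fixN (Ω := Ω) g : ℤ) - 1) * ((fixN (Ω := Ω) g : ℤ) - Fintype.card Ω)) =
        (fixN (Ω := Ω) g : ℤ) ^ 2 - ((Fintype.card Ω : ℤ) + 1) * (fixN (Ω := Ω) g : ℤ) + Fintype.card Ω := by
      intro g; ring
    simp_rw [this]
    rw [Finset.sum_add_distrib, Finset.sum_sub_distrib, ← Finset.mul_sum, h1, h2, Finset.sum_const,
      Finset.card_univ]
    simp only [nsmul_eq_mul]
    ring
  rw [← h3]
  rw [← Finset.sum_filter_add_sum_filter_not Finset.univ (fun g : G => ∀ ω : Ω, g • ω ≠ ω)]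
  have h4 : ∑ g ∈ (Finset.univ.filter fun g : G => ∀ ω : Ω, g • ω ≠ ω),
      (((fixN (Ω := Ω) g : ℤ) - 1) * ((fixN (Ω := Ω) g : ℤ) - Fintype.card Ω)) =
      (Fintype.card Ω : ℤ) * (Finset.univ.filter fun g : G => ∀ ω : Ω, g • ω ≠ ω).card := by
    rw [Finset.sum_congr rfl (g := fun _ => (Fintype.card Ω : ℤ))]
    · rw [Finset.sum_const]; simp only [nsmul_eq_mul]; ring
    · intro g hg
      have : fixN (Ω := Ω) g = 0 := (fixN_eq_zero_iff g).mpr (Finset.mem_filter.mp hg).2
      rw [this]; push_cast; ring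
  rw [h4, Finset.sum_neg_distrib]
  ring


end Cfsg.Agent.Lib.Helper8
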