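import Mathlib

/-!
# Zsigmondy's theorem for `a ^ n - 1` (helper8)

Integer values of cyclotomic polynomials and primitive prime divisors.
-/

set_option autoImplicit false

namespace Cfsg.Agent.Lib.Helper8.Zsig

open Polynomial

/-- `cyc n a = Φ_n(a)` as an integer. -/
noncomputable def cyc (n a : ℕ) : ℤ := (cyclotomic n ℤ).eval (a : ℤ)

theorem cyc_pos (n : ℕ) {a : ℕ} (ha : 1 < a) : 0 < cyc n a :=
  cyclotomic_pos' n (by exact_mod_cast ha)

theorem prod_cyc (n a : ℕ) (hn : 0 < n) : ∏ d ∈ n.divisors, cyc d a = (a : ℤ) ^ n - 1 := by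
  have := congrArg (eval (a : ℤ)) (prod_cyclotomic_eq_X_pow_sub_one hn ℤ)
  simpa [eval_prod, cyc] using this

theorem cyc_mul_dvd {n m a : ℕ} (hn : 0 < n) (hm : m ∣ n) (hmn : m ≠ n) :
    cyc n a * ((a : ℤ) ^ m - 1) ∣ (a : ℤ) ^ n - 1 := by
  have hm0 : 0 < m := Nat.pos_of_dvd_of_pos hm hn
  rw [← prod_cyc n a hn, ← prod_cyc m a hm0, ← Nat.cons_self_properDivisors hn.ne',
    Finset.prod_cons]
  exact mul_dvd_mul_left _ (Finset.prod_dvd_prod_of_subset _ _ _
    (Nat.divisors_subset_properDivisors hn.ne' hm hmn))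

theorem cyc_dvd_pow_sub_one {n a : ℕ} (hn : 0 < n) : cyc n a ∣ (a : ℤ) ^ n - 1 := by
  rw [← prod_cyc n a hn]
  exact Finset.dvd_prod_of_mem _ (Nat.mem_divisors_self n hn.ne')

/-- `Φ_n(a)` divides the geometric sum `1 + c + ... + c^(q-1)`, `c = a^(n/q)`. -/
theorem cyc_dvd_geom_sum {n q a : ℕ} (ha : 1 < a) (hn : 0 < n) (hq : q.Prime) (hqn : q ∣ n) :
    cyc n a ∣ ∑ i ∈ Finset.range q, ((a : ℤ) ^ (n / q)) ^ i := by
  have hm : n / q ∣ n := Nat.div_dvd_of_dvd hqn
  have hmn : n / q ≠ n := by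
    intro h
    have := Nat.div_lt_self hn hq.one_lt
    omega
  have h1 := cyc_mul_dvd (a := a) hn hm hmn
  have h2 : (a : ℤ) ^ n - 1 = (∑ i ∈ Finset.range q, ((a : ℤ) ^ (n / q)) ^ i) *
      ((a : ℤ) ^ (n / q) - 1) := by
    rw [geom_sum_mul, ← pow_mul, Nat.div_mul_cancel hqn]
  rw [h2] at h1
  have hne : (a : ℤ) ^ (n / q) - 1 ≠ 0 := by
    have h0 : 0 < n / q := Nat.div_pos (Nat.le_of_dvd hn hqn) hq.pos
    have : (1 : ℤ) < (a : ℤ) ^ (n / q) := one_lt_pow₀ (by exact_mod_cast ha) h0.ne'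
    omega
  exact (mul_dvd_mul_iff_right hne).mp h1

/-- bridge: `r ∣ a^k - 1` in terms of `ZMod r`. -/
theorem dvd_pow_sub_one_iff (r a k : ℕ) (ha : 0 < a) :
    r ∣ a ^ k - 1 ↔ (a : ZMod r) ^ k = 1 := by
  rw [← ZMod.natCast_eq_zero_iff, Nat.cast_sub (Nat.one_le_pow _ _ ha), Nat.cast_pow,
    Nat.cast_one, sub_eq_zero]

theorem int_dvd_pow_sub_one_iff (r a k : ℕ) :
    (r : ℤ) ∣ (a : ℤ) ^ k - 1 ↔ (a : ZMod r) ^ k = 1 := by
  rw [← ZMod.intCast_zmod_eq_zero_iff_dvd]
  push_cast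
  rw [sub_eq_zero]

/-- Structure of a non-primitive prime divisor `r` of `Φ_n(a)`: `n = d * r^j` with
`d = ord_r(a) < r` and `j ≥ 1`. -/
theorem structure_of_non_primitive {n a r : ℕ} (ha : 1 < a) (hn : 1 < n) (hr : r.Prime)
    (hrZ : (r : ℤ) ∣ cyc n a) (k : ℕ) (hk0 : 0 < k) (hkn : k < n) (hk : r ∣ a ^ k - 1) :
    ∃ d j : ℕ, 0 < d ∧ d < r ∧ 0 < j ∧ n = d * r ^ j ∧ (a : ZMod r) ^ d = 1 := by
  haveI : Fact r.Prime := ⟨hr⟩
  have hn0 : 0 < n := by omega
  have ha0 : 0 < a := by omega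
  set x : ZMod r := (a : ZMod r) with hx
  have hxn : x ^ n = 1 :=
    (int_dvd_pow_sub_one_iff r a n).mp (hrZ.trans (cyc_dvd_pow_sub_one hn0))
  have hxk : x ^ k = 1 := (dvd_pow_sub_one_iff r a k ha0).mp hk
  have hx0 : x ≠ 0 := by
    intro h
    rw [h, zero_pow hn0.ne'] at hxn
    exact zero_ne_one hxn
  have hdn : orderOf x ∣ n := orderOf_dvd_of_pow_eq_one hxn
  have hdk : orderOf x ∣ k := orderOf_dvd_of_pow_eq_one hxk
  have hdr : orderOf x ∣ r - 1 := orderOf_dvd_of_pow_eq_one (ZMod.pow_card_sub_one_eq_one hx0)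
  have hd0 : 0 < orderOf x := Nat.pos_of_dvd_of_pos hdn hn0
  have hdlt : orderOf x < n := lt_of_le_of_lt (Nat.le_of_dvd hk0 hdk) hkn
  have hdr' : orderOf x < r := by
    have := Nat.le_of_dvd (by have := hr.two_le; omega) hdr
    have := hr.two_le
    omega
  obtain ⟨m, hm⟩ := hdn
  have hm0 : m ≠ 0 := by
    rintro rfl
    omega
  have hm1 : m ≠ 1 := by
    rintro rfl
    omega
  have hq : ∀ {q : ℕ}, q.Prime → q ∣ m → q = r := by
    intro q hqp hqm
    obtain ⟨m', rfl⟩ := hqm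
    have hqn : q ∣ n := ⟨orderOf x * m', by rw [hm]; ring⟩
    have hnq : n / q = orderOf x * m' := by
      rw [hm]
      rw [show orderOf x * (q * m') = q * (orderOf x * m') by ring]
      exact Nat.mul_div_cancel_left _ hqp.pos
    have hc : x ^ (n / q) = 1 := by
      rw [hnq, pow_mul, pow_orderOf_eq_one, one_pow]
    have hsum := hrZ.trans (cyc_dvd_geom_sum ha hn0 hqp hqn)
    rw [← ZMod.intCast_zmod_eq_zero_iff_dvd] at hsum
    push_cast at hsum
    rw [← hx, hc] at hsum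
    simp only [one_pow, Finset.sum_const, Finset.card_range, nsmul_eq_mul, mul_one] at hsum
    rw [ZMod.natCast_eq_zero_iff] at hsum
    exact ((Nat.prime_dvd_prime_iff_eq hr hqp).mp hsum).symm
  have hpow := Nat.eq_prime_pow_of_unique_prime_dvd hm0 hq
  refine ⟨orderOf x, m.primeFactorsList.length, hd0, hdr', ?_, ?_, ?_⟩
  · rcases Nat.eq_zero_or_pos m.primeFactorsList.length with h | h
    · rw [h, pow_zero] at hpow
      exact absurd hpow hm1
    · exact h
  · rw [← hpow]; exact hm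
  · exact pow_orderOf_eq_one x

theorem cyc_mul_prime_of_dvd {m p a : ℕ} (hp : p.Prime) (h : p ∣ m) :
    cyc (m * p) a = cyc m (a ^ p) := by
  unfold cyc
  rw [← cyclotomic_expand_eq_cyclotomic hp h ℤ, expand_eval]
  push_cast
  rfl

theorem cyc_mul_prime_of_not_dvd {m p a : ℕ} (hp : p.Prime) (h : ¬ p ∣ m) :
    cyc (m * p) a * cyc m a = cyc m (a ^ p) := by
  unfold cyc
  rw [← eval_mul, ← cyclotomic_expand_eq_cyclotomic_mul hp h ℤ, expand_eval]
  push_cast
  rfl

theorem cyc_le_three_pow (d : ℕ) : cyc d 2 ≤ 3 ^ d.totient := by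
  have h := cyclotomic_eval_le_add_one_pow_totient (q := 2) (by norm_num) d
  have h2 := cyclotomic.eval_apply (2 : ℤ) d (algebraMap ℤ ℝ)
  have h3 : ((cyc d 2 : ℤ) : ℝ) ≤ ((3 ^ d.totient : ℤ) : ℝ) := by
    unfold cyc
    push_cast
    simp only [eq_intCast, Int.cast_ofNat] at h2
    rw [← h2]
    norm_num at h ⊢
    exact h
  exact_mod_cast h3

theorem three_mul_lt_two_pow {r : ℕ} (hr : 5 ≤ r) : 3 * r + 1 ≤ 2 ^ r := by
  induction r, hr using Nat.le_induction with
  | base => norm_num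
  | succ k hk ih => rw [pow_succ]; omega

/-- **Zsigmondy's theorem** for `a ^ n - 1`. -/
theorem zsigmondy (a n : ℕ) (ha : 1 < a) (hn : 1 < n) (h6 : ¬ (a = 2 ∧ n = 6))
    (h2 : ¬ (n = 2 ∧ ∃ m : ℕ, a + 1 = 2 ^ m)) :
    ∃ r : ℕ, r.Prime ∧ r ∣ a ^ n - 1 ∧ ∀ k : ℕ, 0 < k → k < n → ¬ r ∣ a ^ k - 1 := by
  by_contra hcon
  push_neg at hcon
  have hn0 : 0 < n := by omega
  have ha0 : 0 < a := by omega
  set N := (cyc n a).natAbs with hN
  have hNZ : (N : ℤ) = cyc n a := Int.natAbs_of_nonneg (cyc_pos n ha).le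
  have hN2 : 2 ≤ N := by
    have := sub_one_lt_natAbs_cyclotomic_eval (n := n) (q := a) hn (by omega)
    change a - 1 < N at this
    omega
  have hNdvd : N ∣ a ^ n - 1 := by
    have h := cyc_dvd_pow_sub_one (a := a) hn0
    rw [← hNZ] at h
    have h1 : ((a ^ n - 1 : ℕ) : ℤ) = (a : ℤ) ^ n - 1 := by
      rw [Nat.cast_sub (Nat.one_le_pow _ _ ha0)]
      push_cast
      rfl
    rw [← h1] at h
    exact_mod_cast h
  have hstruct : ∀ r : ℕ, r.Prime → r ∣ N →
      ∃ d j : ℕ, 0 < d ∧ d < r ∧ 0 < j ∧ n = d * r ^ j ∧ (a : ZMod r) ^ d = 1 := by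
    intro r hr hrN
    obtain ⟨k, hk0, hkn, hk⟩ := hcon r hr (hrN.trans hNdvd)
    refine structure_of_non_primitive ha hn hr ?_ k hk0 hkn hk
    rw [← hNZ]
    exact_mod_cast hrN
  set r := N.minFac with hrdef
  have hr : r.Prime := Nat.minFac_prime (by omega)
  have hrN : r ∣ N := Nat.minFac_dvd N
  obtain ⟨d, j, hd0, hdr, hj0, hnd, hxd⟩ := hstruct r hr hrN
  have huniq : ∀ {q : ℕ}, q.Prime → q ∣ N → q = r := by
    intro q hq hqN
    by_contra hne
    have hrq : r ≤ q := Nat.minFac_le_of_dvd hq.two_le hqN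
    have hlt : r < q := lt_of_le_of_ne hrq (Ne.symm hne)
    obtain ⟨d', j', hd0', hdr', hj0', hnd', -⟩ := hstruct q hq hqN
    have hqn : q ∣ d * r ^ j := by
      rw [← hnd, hnd']
      exact dvd_mul_of_dvd_right (dvd_pow_self q hj0'.ne') d'
    rcases (Nat.Prime.dvd_mul hq).mp hqn with h | h
    · have := Nat.le_of_dvd hd0 h
      omega
    · exact hne ((Nat.prime_dvd_prime_iff_eq hq hr).mp (hq.dvd_of_dvd_pow h))
  have hNpow := Nat.eq_prime_pow_of_unique_prime_dvd (by omega : N ≠ 0) huniq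
  set t := N.primeFactorsList.length with ht
  have hrn : r ∣ n := by
    rw [hnd]
    exact dvd_mul_of_dvd_right (dvd_pow_self r hj0.ne') d
  have hnr : n / r = d * r ^ (j - 1) := by
    rw [hnd]
    obtain ⟨j', rfl⟩ : ∃ j', j = j' + 1 := ⟨j - 1, by omega⟩
    rw [pow_succ, ← mul_assoc, Nat.mul_div_cancel _ hr.pos]
    simp
  haveI : Fact r.Prime := ⟨hr⟩
  have hc1 : (r : ℤ) ∣ (a : ℤ) ^ (n / r) - 1 := by
    rw [int_dvd_pow_sub_one_iff, hnr, pow_mul, hxd, one_pow]
  have hgeo := cyc_dvd_geom_sum ha hn0 hr hrn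
  -- `N = r`
  have hNr : N = r := by
    have ht1 : t ≠ 0 := by
      intro h
      rw [h, pow_zero] at hNpow
      omega
    suffices hsq : ¬ r ^ 2 ∣ N by
      have : t < 2 := by
        by_contra h
        push_neg at h
        exact hsq (hNpow ▸ pow_dvd_pow r h)
      have : t = 1 := by omega
      rw [hNpow, this, pow_one]
    intro hsq
    have hsqZ : (r : ℤ) ^ 2 ∣ ∑ i ∈ Finset.range r, ((a : ℤ) ^ (n / r)) ^ i := by
      refine dvd_trans ?_ hgeo
      rw [← hNZ]
      exact_mod_cast hsq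
    rcases hr.eq_two_or_odd' with hr2 | hodd
    · -- `r = 2`
      have hd1 : d = 1 := by omega
      rw [hr2] at hsqZ hnd hnr hc1
      rw [hd1, one_mul] at hnd hnr
      have hsum : ∑ i ∈ Finset.range 2, ((a : ℤ) ^ (n / 2)) ^ i = 1 + (a : ℤ) ^ (n / 2) := by
        simp [Finset.sum_range_succ]
      rw [hsum] at hsqZ
      rcases Nat.lt_or_ge j 2 with hj | hj
      · have hj1 : j = 1 := by omega
        rw [hj1, pow_one] at hnd
        apply h2
        refine ⟨hnd, t, ?_⟩
        have hc : cyc 2 a = (a : ℤ) + 1 := by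
          unfold cyc
          simp [cyclotomic_two]
        have h3 : (N : ℤ) = (a : ℤ) + 1 := by rw [hNZ, hnd, hc]
        have h4 : N = a + 1 := by exact_mod_cast h3
        rw [← h4, hNpow, hr2]
      · obtain ⟨j', rfl⟩ : ∃ j', j = j' + 2 := ⟨j - 2, by omega⟩
        have hnr' : n / 2 = 2 ^ j' * 2 := by
          rw [hnr]
          simp [pow_succ]
        rw [hnr', pow_mul] at hsqZ hc1
        set s : ℤ := (a : ℤ) ^ 2 ^ j' with hs
        have hsodd : Odd s := by
          have h5 : (2 : ℤ) ∣ s ^ 2 - 1 := by exact_mod_cast hc1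
          have h6 : Odd (s ^ 2) := by
            obtain ⟨w, hw⟩ := h5
            exact ⟨w, by linarith⟩
          exact (Int.odd_pow' (by norm_num)).mp h6
        have h7 := Int.sq_mod_four_eq_one_of_odd hsodd
        have h8 : ((2 : ℕ) : ℤ) ^ 2 = 4 := by norm_num
        rw [h8] at hsqZ
        omega
    · -- `r` odd
      have hprime : Prime (r : ℤ) := Nat.prime_iff_prime_int.mp hr
      have hnd' : ¬ (r : ℤ) ∣ (a : ℤ) ^ (n / r) := by
        intro h
        have h9 := (dvd_sub_right h).mp hc1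
        have h10 : (r : ℤ) ∣ 1 := (dvd_neg (α := ℤ)).mp (by simpa using h9) |> fun h => by simpa using h
        have := Int.isUnit_iff_natAbs_eq.mp (isUnit_of_dvd_one h10)
        simp at this
        exact hr.one_lt.ne' this
      have hmult := emultiplicity_geom_sum₂_eq_one (R := ℤ) (p := r) hprime hodd
        (x := (a : ℤ) ^ (n / r)) (y := 1) hc1 hnd'
      simp only [one_pow, mul_one] at hmult
      have : ¬ (r : ℤ) ^ 2 ∣ ∑ i ∈ Finset.range r, ((a : ℤ) ^ (n / r)) ^ i := by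
        rw [← emultiplicity_lt_iff_not_dvd, hmult]
        norm_num
      exact this hsqZ
  -- final inequalities
  have htot : r - 1 ≤ n.totient := by
    have h := Nat.totient_dvd_of_dvd hrn
    rw [Nat.totient_prime hr] at h
    exact Nat.le_of_dvd (Nat.totient_pos.mpr hn0) h
  have hrpow : r ≤ 2 ^ (r - 1) := by
    have := Nat.lt_two_pow_self (n := r - 1)
    omega
  have hlow := sub_one_pow_totient_lt_natAbs_cyclotomic_eval (n := n) (q := a) hn (by omega)
  change (a - 1) ^ n.totient < N at hlow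
  rcases Nat.lt_or_ge 2 a with ha3 | ha2
  · -- `a ≥ 3`
    have h1 : 2 ^ (r - 1) ≤ (a - 1) ^ n.totient :=
      (Nat.pow_le_pow_right (by norm_num) htot).trans (Nat.pow_le_pow_left (by omega) _)
    omega
  · -- `a = 2`
    have ha2' : a = 2 := by omega
    subst ha2'
    have hd2 : 2 ≤ d := by
      by_contra h
      have hd1 : d = 1 := by omega
      rw [hd1] at hxd
      have := (dvd_pow_sub_one_iff r 2 1 (by norm_num)).mpr hxd
      simp at this
      exact hr.one_lt.ne' this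
    have hr3 : 3 ≤ r := by omega
    rcases Nat.lt_or_ge j 2 with hj | hj
    · -- `j = 1`
      have hj1 : j = 1 := by omega
      rw [hj1, pow_one] at hnd
      have hrd : ¬ r ∣ d := fun h => by
        have := Nat.le_of_dvd hd0 h
        omega
      have hmul := cyc_mul_prime_of_not_dvd (a := 2) hr hrd
      rw [← hnd, ← hNZ, hNr] at hmul
      have hup := cyc_le_three_pow d
      have hlo := sub_one_pow_totient_lt_natAbs_cyclotomic_eval (n := d) (q := 2 ^ r)
        (by omega) (by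
          have := Nat.lt_two_pow_self (n := r)
          omega)
      change (2 ^ r - 1) ^ d.totient < (cyc d (2 ^ r)).natAbs at hlo
      have hu : 0 < d.totient := Nat.totient_pos.mpr hd0
      have hkey : (2 ^ r - 1) ^ d.totient < r * 3 ^ d.totient := by
        have h1 : ((cyc d (2 ^ r)).natAbs : ℤ) = cyc d (2 ^ r) :=
          Int.natAbs_of_nonneg (cyc_pos d (by
            have := Nat.lt_two_pow_self (n := r)
            omega)).le
        have h2 : (((2 ^ r - 1) ^ d.totient : ℕ) : ℤ) < ((r * 3 ^ d.totient : ℕ) : ℤ) := by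
          calc (((2 ^ r - 1) ^ d.totient : ℕ) : ℤ) < ((cyc d (2 ^ r)).natAbs : ℤ) := by
                exact_mod_cast hlo
            _ = (r : ℤ) * cyc d 2 := by rw [h1, hmul]
            _ ≤ (r : ℤ) * 3 ^ d.totient := by
                exact mul_le_mul_of_nonneg_left hup (by positivity)
            _ = ((r * 3 ^ d.totient : ℕ) : ℤ) := by push_cast; rfl
        exact_mod_cast h2
      rcases Nat.lt_or_ge r 5 with hr5 | hr5
      · have hr3' : r = 3 := by
          interval_cases r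
          · rfl
          · exact absurd hr (by norm_num)
        rw [hr3'] at hdr hnd
        have hd2' : d = 2 := by omega
        rw [hd2'] at hnd
        exact h6 ⟨rfl, hnd⟩
      · have h3r := three_mul_lt_two_pow hr5
        have h1 : (3 * r) ^ d.totient ≤ (2 ^ r - 1) ^ d.totient :=
          Nat.pow_le_pow_left (by omega) _
        rw [mul_pow] at h1
        have h2 : r ^ 1 ≤ r ^ d.totient := Nat.pow_le_pow_right hr.pos hu
        rw [pow_one] at h2
        have h3 : 3 ^ d.totient * r ≤ 3 ^ d.totient * r ^ d.totient :=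
          Nat.mul_le_mul_left _ h2
        have h4 : r * 3 ^ d.totient = 3 ^ d.totient * r := mul_comm _ _
        omega
    · -- `j ≥ 2`
      have hrnr : r ∣ n / r := by
        rw [hnr]
        exact dvd_mul_of_dvd_right (dvd_pow_self r (by omega)) d
      have hmul := cyc_mul_prime_of_dvd (a := 2) hr hrnr
      rw [Nat.div_mul_cancel hrn] at hmul
      have hnr1 : 1 < n / r := by
        have := Nat.le_of_dvd (Nat.div_pos (Nat.le_of_dvd hn0 hrn) hr.pos) hrnr
        omega
      have hlo := sub_one_lt_natAbs_cyclotomic_eval (n := n / r) (q := 2 ^ r) hnr1 (by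
        have := Nat.lt_two_pow_self (n := r)
        omega)
      change 2 ^ r - 1 < (cyc (n / r) (2 ^ r)).natAbs at hlo
      rw [← hmul, ← hN, hNr] at hlo
      have := Nat.lt_two_pow_self (n := r)
      omega

end Cfsg.Agent.Lib.Helper8.Zsig
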