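import Mathlib
import Cfsg.Agent.Lib.Helper13.Hall

/-!
Lucido's three primes lemma (helper8): in a finite solvable group, among any three distinct
prime divisors of the order, two are joined by an element of order their product.

Main results: `frob_count` (a Frobenius-like group `M⟨y⟩` acting on an abelian group),
`exists_normal_elemAb`, `three_primes_aux`, `three_primes`.
-/

set_option autoImplicit false

namespace Cfsg.Agent.Lib.Helper8

universe u

section Count

variable {F A : Type*} [Group F] [CommGroup A] (act : F → A → A)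

/-- If `y` (of prime order `r`) normalizes the finite subgroup `M`, centralizes no nontrivial
element of `M`, and neither `M` nor `y` has a nontrivial fixed point on the abelian group `A`,
then `A` has exponent dividing `|M|`. -/
theorem frob_count
    (act_mul : ∀ g h v, act (g * h) v = act g (act h v))
    (act_one : ∀ v, act 1 v = v)
    (act_map_mul : ∀ g v w, act g (v * w) = act g v * act g w)
    (M : Subgroup F) [Finite M] (y : F) (r : ℕ) (hr : r.Prime) (hy : orderOf y = r)
    (hnorm : ∀ m ∈ M, y * m * y⁻¹ ∈ M)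
    (hfix : ∀ m ∈ M, y * m = m * y → m = 1)
    (hM : ∀ v : A, (∀ m ∈ M, act m v = v) → v = 1)
    (hC : ∀ v : A, act y v = v → v = 1) :
    ∀ v : A, v ^ Nat.card M = 1 := by
  classical
  have : Fintype M := Fintype.ofFinite M
  -- `act g` as a monoid hom
  let φ : F → (A →* A) := fun g => MonoidHom.mk' (act g) (act_map_mul g)
  have hφ : ∀ g v, φ g v = act g v := fun g v => rfl
  have act_prod : ∀ (g : F) {ι : Type} (s : Finset ι) (f : ι → A),
      act g (∏ i ∈ s, f i) = ∏ i ∈ s, act g (f i) := by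
    intro g ι s f
    have := map_prod (φ g) f s
    simpa [hφ] using this
  have act_prod' : ∀ (g : F) (f : M → A),
      act g (∏ i, f i) = ∏ i, act g (f i) := by
    intro g f
    have := map_prod (φ g) f Finset.univ
    simpa [hφ] using this
  have act_one' : ∀ g, act g 1 = 1 := fun g => (φ g).map_one
  have hyr : y ^ r = 1 := by rw [← hy]; exact pow_orderOf_eq_one y
  -- the trace over `⟨y⟩` vanishes
  have hT : ∀ w : A, ∏ i ∈ Finset.range r, act (y ^ i) w = 1 := by
    intro w
    apply hC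
    rw [act_prod]
    have e1 : ∀ i, act y (act (y ^ i) w) = act (y ^ (i + 1)) w := by
      intro i
      rw [← act_mul, pow_succ']
    simp only [e1]
    have h1 := Finset.prod_range_succ (fun i => act (y ^ i) w) r
    have h2 := Finset.prod_range_succ' (fun i => act (y ^ i) w) r
    simp only [hyr, pow_zero] at h1 h2
    rw [h1] at h2
    exact (mul_right_cancel h2).symm
  -- the trace over `M` vanishes
  have hS : ∀ w : A, ∏ m : M, act (m : F) w = 1 := by
    intro w
    apply hM
    intro m' hm'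
    rw [act_prod']
    have e1 : ∀ m : M, act m' (act (m : F) w) = act ((⟨m', hm'⟩ * m : M) : F) w := by
      intro m
      rw [← act_mul]; rfl
    simp only [e1]
    exact Function.Bijective.prod_comp (Equiv.mulLeft (⟨m', hm'⟩ : M)).bijective
      (fun m : M => act (m : F) w)
  -- powers of `y` normalize `M`
  have hnorm' : ∀ (i : ℕ) (m : F), m ∈ M → y ^ i * m * (y ^ i)⁻¹ ∈ M := by
    intro i
    induction i with
    | zero => intro m hm; simpa using hm
    | succ k ih =>
      intro m hm
      have := hnorm _ (ih m hm)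
      have e : y ^ (k + 1) * m * (y ^ (k + 1))⁻¹ = y * (y ^ k * m * (y ^ k)⁻¹) * y⁻¹ := by
        rw [pow_succ']; group
      rw [e]; exact this
  -- nontrivial powers of `y` have no fixed points on `M`
  have hfix' : ∀ i : ℕ, 0 < i → i < r → ∀ m ∈ M, y ^ i * m = m * y ^ i → m = 1 := by
    intro i hi0 hir m hm hcomm
    apply hfix m hm
    have hcop : Nat.Coprime i r :=
      ((Nat.Prime.coprime_iff_not_dvd hr).mpr (Nat.not_dvd_of_pos_of_lt hi0 hir)).symm
    obtain ⟨j, -, hj⟩ := Nat.exists_mul_mod_eq_one_of_coprime hcop hr.one_lt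
    have hyj : (y ^ i) ^ j = y := by
      rw [← pow_mul, ← pow_mod_orderOf, hy, hj, pow_one]
    have hc : Commute (y ^ i) m := hcomm
    have := (hc.pow_left j)
    rw [hyj] at this
    exact this
  intro v
  -- the double product
  have hdouble : ∏ m : M, ∏ i ∈ Finset.range r, act ((m : F) * y ^ i * (m : F)⁻¹) v = 1 := by
    apply Finset.prod_eq_one
    intro m _
    have e : ∀ i, act ((m : F) * y ^ i * (m : F)⁻¹) v
        = act (m : F) (act (y ^ i) (act ((m : F)⁻¹) v)) := by
      intro i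
      rw [← act_mul, ← act_mul]
    simp only [e]
    rw [← act_prod, hT, act_one']
  rw [Finset.prod_comm] at hdouble
  obtain ⟨k, rfl⟩ : ∃ k, r = k + 1 := ⟨r - 1, by have := hr.pos; omega⟩
  rw [Finset.prod_range_succ'] at hdouble
  have hrest : ∏ i ∈ Finset.range k, ∏ m : M, act ((m : F) * y ^ (i + 1) * (m : F)⁻¹) v = 1 := by
    apply Finset.prod_eq_one
    intro i hi
    have hi' : i + 1 < k + 1 := by
      have := Finset.mem_range.mp hi; omega
    set c : F := y ^ (i + 1) with hc
    -- the bijection `m ↦ m c m⁻¹ c⁻¹`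
    have hmem : ∀ m : M, (m : F) * c * (m : F)⁻¹ * c⁻¹ ∈ M := by
      intro m
      have h1 : c * (m : F)⁻¹ * c⁻¹ ∈ M := hnorm' (i + 1) _ (M.inv_mem m.2)
      have e : (m : F) * c * (m : F)⁻¹ * c⁻¹ = (m : F) * (c * (m : F)⁻¹ * c⁻¹) := by group
      rw [e]; exact M.mul_mem m.2 h1
    let f : M → M := fun m => ⟨(m : F) * c * (m : F)⁻¹ * c⁻¹, hmem m⟩
    have hfinj : Function.Injective f := by
      intro m m' h
      have h1 : (m : F) * c * (m : F)⁻¹ * c⁻¹ = (m' : F) * c * (m' : F)⁻¹ * c⁻¹ :=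
        congrArg Subtype.val h
      have h2 : (m : F) * c * (m : F)⁻¹ = (m' : F) * c * (m' : F)⁻¹ := mul_right_cancel h1
      have h3 : c * ((m' : F)⁻¹ * (m : F)) = ((m' : F)⁻¹ * (m : F)) * c := by
        have : c = (m : F)⁻¹ * ((m' : F) * c * (m' : F)⁻¹) * (m : F) := by
          rw [← h2]; group
        calc c * ((m' : F)⁻¹ * (m : F))
            = ((m' : F)⁻¹ * ((m' : F) * c * (m' : F)⁻¹)) * (m : F) := by group
          _ = ((m' : F)⁻¹ * ((m : F) * c * (m : F)⁻¹)) * (m : F) := by rw [h2]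
          _ = ((m' : F)⁻¹ * (m : F)) * c := by group
      have h4 := hfix' (i + 1) (Nat.succ_pos i) hi' _ (M.mul_mem (M.inv_mem m'.2) m.2) h3
      apply Subtype.ext
      have : (m : F) = (m' : F) * ((m' : F)⁻¹ * (m : F)) := by group
      rw [this, h4, mul_one]
    have hfbij : Function.Bijective f := hfinj.bijective_of_finite
    have e : ∀ m : M, act ((m : F) * c * (m : F)⁻¹) v = act ((f m : M) : F) (act c v) := by
      intro m
      rw [← act_mul]
      congr 1
      show (m : F) * c * (m : F)⁻¹ = (m : F) * c * (m : F)⁻¹ * c⁻¹ * c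
      group
    simp only [e]
    rw [Function.Bijective.prod_comp hfbij (fun m : M => act (m : F) (act c v))]
    exact hS _
  rw [hrest, one_mul] at hdouble
  simp only [pow_zero, mul_one, mul_inv_cancel, act_one, Finset.prod_const, Finset.card_univ]
    at hdouble
  rw [Nat.card_eq_fintype_card]
  exact hdouble

end Count

section Group

/-- A nontrivial finite solvable group has a nontrivial normal abelian subgroup of prime
exponent. -/
theorem exists_normal_elemAb (G : Type*) [Group G] [Finite G] [Nontrivial G]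
    (hs : Group.IsSolvable G) :
    ∃ (V : Subgroup G) (p : ℕ), V.Normal ∧ V ≠ ⊥ ∧ p.Prime ∧ (∀ x ∈ V, x ^ p = 1) ∧
      (∀ x ∈ V, ∀ y ∈ V, x * y = y * x) := by
  classical
  obtain ⟨A, hAchar, hAne, hAcomm⟩ := Cfsg.Agent.Lib.Helper10.exists_abelian_characteristic G hs
  have hAnormal : A.Normal := inferInstance
  have : Nontrivial A := (Subgroup.nontrivial_iff_ne_bot A).2 hAne
  have hcard : Nat.card A ≠ 1 := by
    intro h
    have := (Nat.card_eq_one_iff_unique.1 h).1
    exact not_subsingleton A this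
  obtain ⟨p, hp, hpdvd⟩ := Nat.exists_prime_and_dvd hcard
  have : Fact p.Prime := ⟨hp⟩
  obtain ⟨a, ha⟩ := exists_prime_orderOf_dvd_card' p hpdvd
  let V : Subgroup G :=
    { carrier := {x | x ∈ A ∧ x ^ p = 1}
      one_mem' := ⟨A.one_mem, one_pow p⟩
      mul_mem' := by
        rintro x y ⟨hx, hxp⟩ ⟨hy, hyp⟩
        refine ⟨A.mul_mem hx hy, ?_⟩
        have hc : Commute x y := hAcomm x hx y hy
        rw [hc.mul_pow, hxp, hyp, one_mul]
      inv_mem' := by
        rintro x ⟨hx, hxp⟩
        exact ⟨A.inv_mem hx, by rw [inv_pow, hxp, inv_one]⟩ }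
  refine ⟨V, p, ⟨?_⟩, ?_, hp, ?_, ?_⟩
  · rintro x ⟨hx, hxp⟩ g
    refine ⟨hAnormal.conj_mem x hx g, ?_⟩
    rw [conj_pow, hxp, mul_one, mul_inv_cancel]
  · intro hV
    have haV : (a : G) ∈ V := by
      refine ⟨a.2, ?_⟩
      have : a ^ p = 1 := by rw [← ha]; exact pow_orderOf_eq_one a
      exact_mod_cast congrArg Subtype.val this
    rw [hV, Subgroup.mem_bot] at haV
    have : a = 1 := Subtype.ext haV
    rw [this, orderOf_one] at ha
    exact hp.one_lt.ne ha
  · rintro x ⟨hx, hxp⟩
    exact hxp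
  · rintro x ⟨hx, -⟩ y ⟨hy, -⟩
    exact hAcomm x hx y hy

/-- In a finite group, every divisor of an element order is an element order. -/
theorem exists_orderOf_eq_of_dvd {G : Type*} [Group G] [Finite G] (g : G) (d : ℕ)
    (hd : d ∣ orderOf g) : ∃ h : G, orderOf h = d :=
  ⟨g ^ (orderOf g / d), orderOf_pow_orderOf_div (orderOf_pos g).ne' hd⟩

/-- An element of prime exponent `p`, not the identity, has order `p`. -/
theorem orderOf_eq_of_pow_prime {G : Type*} [Group G] {p : ℕ} (hp : p.Prime) {x : G}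
    (hx : x ^ p = 1) (hx1 : x ≠ 1) : orderOf x = p := by
  have : Fact p.Prime := ⟨hp⟩
  exact orderOf_eq_prime hx hx1

/-- The core of the three primes lemma: an abelian normal subgroup `N` of exponent `p`, a
subgroup `M` of exponent `q` and an element `y` of order `r` normalizing `M`. -/
theorem three_primes_aux {G : Type*} [Group G] [Finite G] (p q r : ℕ) (hp : p.Prime)
    (hq : q.Prime) (hr : r.Prime) (hpq : p ≠ q) (hpr : p ≠ r) (hqr : q ≠ r)
    (N : Subgroup G) [hNn : N.Normal] (hN1 : N ≠ ⊥) (hNp : ∀ x ∈ N, x ^ p = 1)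
    (hNc : ∀ x ∈ N, ∀ y ∈ N, x * y = y * x)
    (M : Subgroup G) (hM1 : M ≠ ⊥) (hMq : ∀ x ∈ M, x ^ q = 1)
    (y : G) (hy : orderOf y = r) (hyM : ∀ m ∈ M, y * m * y⁻¹ ∈ M) :
    ∃ g : G, orderOf g = p * q ∨ orderOf g = p * r ∨ orderOf g = q * r := by
  classical
  by_contra hcon
  push Not at hcon
  letI cg : CommGroup N :=
    { (inferInstance : Group N) with
      mul_comm := fun a b => Subtype.ext (hNc a a.2 b b.2) }
  let act : G → N → N := fun g v => ⟨g * v * g⁻¹, hNn.conj_mem v v.2 g⟩
  have hcpq : Nat.Coprime p q := (Nat.coprime_primes hp hq).mpr hpq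
  have hcpr : Nat.Coprime p r := (Nat.coprime_primes hp hr).mpr hpr
  have hcqr : Nat.Coprime q r := (Nat.coprime_primes hq hr).mpr hqr
  obtain ⟨m0, hm0, hm01⟩ : ∃ m ∈ M, m ≠ 1 := by
    by_contra h
    push Not at h
    exact hM1 ((Subgroup.eq_bot_iff_forall M).mpr h)
  have key := frob_count (F := G) (A := N) act
    (by intro g h v; apply Subtype.ext; show g * h * v * (g * h)⁻¹ = g * (h * v * h⁻¹) * g⁻¹
        group)
    (by intro v; apply Subtype.ext; show (1 : G) * v * 1⁻¹ = v; group)
    (by intro g v w; apply Subtype.ext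
        show g * (v * w : G) * g⁻¹ = (g * v * g⁻¹) * (g * w * g⁻¹); group)
    M y r hr hy hyM
    (by
      intro m hm hcomm
      by_contra hm1
      have hom : orderOf m = q := orderOf_eq_of_pow_prime hq (hMq m hm) hm1
      have hc : Commute m y := hcomm.symm
      have := hc.orderOf_mul_eq_mul_orderOf_of_coprime (by rw [hom, hy]; exact hcqr)
      rw [hom, hy] at this
      exact (hcon (m * y)).2.2 this)
    (by
      intro v hv
      by_contra hv1
      have hv1' : (v : G) ≠ 1 := fun h => hv1 (Subtype.ext h)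
      have hov : orderOf (v : G) = p := orderOf_eq_of_pow_prime hp (hNp v v.2) hv1'
      have hom : orderOf m0 = q := orderOf_eq_of_pow_prime hq (hMq m0 hm0) hm01
      have h1 : m0 * v * m0⁻¹ = v := congrArg Subtype.val (hv m0 hm0)
      have hc : Commute (v : G) m0 := by
        show (v : G) * m0 = m0 * v
        calc (v : G) * m0 = (m0 * v * m0⁻¹) * m0 := by rw [h1]
          _ = m0 * v := by group
      have := hc.orderOf_mul_eq_mul_orderOf_of_coprime (by rw [hov, hom]; exact hcpq)
      rw [hov, hom] at this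
      exact (hcon _).1 this)
    (by
      intro v hv
      by_contra hv1
      have hv1' : (v : G) ≠ 1 := fun h => hv1 (Subtype.ext h)
      have hov : orderOf (v : G) = p := orderOf_eq_of_pow_prime hp (hNp v v.2) hv1'
      have h1 : y * v * y⁻¹ = v := congrArg Subtype.val hv
      have hc : Commute (v : G) y := by
        show (v : G) * y = y * v
        calc (v : G) * y = (y * v * y⁻¹) * y := by rw [h1]
          _ = y * v := by group
      have := hc.orderOf_mul_eq_mul_orderOf_of_coprime (by rw [hov, hy]; exact hcpr)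
      rw [hov, hy] at this
      exact (hcon _).2.1 this)
  -- a nontrivial element of `N`
  obtain ⟨v0, hv0, hv01⟩ : ∃ v ∈ N, v ≠ 1 := by
    by_contra h
    push Not at h
    exact hN1 ((Subgroup.eq_bot_iff_forall N).mpr h)
  have hov : orderOf v0 = p := orderOf_eq_of_pow_prime hp (hNp v0 hv0) hv01
  have h1 : (⟨v0, hv0⟩ : N) ^ Nat.card M = 1 := key ⟨v0, hv0⟩
  have h2 : v0 ^ Nat.card M = 1 := congrArg Subtype.val h1
  have h3 : p ∣ Nat.card M := by
    rw [← hov]; exact orderOf_dvd_of_pow_eq_one h2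
  -- `M` is a `q`-group
  have : Fact q.Prime := ⟨hq⟩
  have hMp : IsPGroup q M := fun x => ⟨1, by
    rw [pow_one]; exact Subtype.ext (hMq x x.2)⟩
  obtain ⟨k, hk⟩ := IsPGroup.iff_card.mp hMp
  rw [hk] at h3
  exact hpq ((Nat.prime_dvd_prime_iff_eq hp hq).mp (hp.dvd_of_dvd_pow h3))

end Group

section Main

open Cfsg.Agent.Lib.Helper13 in
/-- Key case of the three primes lemma: the solvable group `G` has a nontrivial normal abelian
subgroup of exponent `p`. -/
theorem three_primes_key {G : Type u} [Group G] [Finite G] (hs : Group.IsSolvable G)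
    (p q r : ℕ) (hp : p.Prime)
    (hq : q.Prime) (hr : r.Prime) (hpq : p ≠ q) (hpr : p ≠ r) (hqr : q ≠ r)
    (N : Subgroup G) [hNn : N.Normal] (hN1 : N ≠ ⊥) (hNp : ∀ x ∈ N, x ^ p = 1)
    (hNc : ∀ x ∈ N, ∀ y ∈ N, x * y = y * x)
    (hqG : q ∣ Nat.card G) (hrG : r ∣ Nat.card G) :
    ∃ g : G, orderOf g = p * q ∨ orderOf g = p * r ∨ orderOf g = q * r := by
  classical
  have := hs
  obtain ⟨K, hK1, hK2⟩ := hall_exists ({q, r} : Set ℕ) G
  have hKcard := Subgroup.card_mul_index K
  have hqK : q ∣ Nat.card K := by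
    have h1 : q ∣ Nat.card K * K.index := by rw [hKcard]; exact hqG
    rcases (Nat.Prime.dvd_mul hq).mp h1 with h | h
    · exact h
    · exact absurd (by simp : q ∈ ({q, r} : Set ℕ)) (hK2 q hq h)
  have hrK : r ∣ Nat.card K := by
    have h1 : r ∣ Nat.card K * K.index := by rw [hKcard]; exact hrG
    rcases (Nat.Prime.dvd_mul hr).mp h1 with h | h
    · exact h
    · exact absurd (by simp : r ∈ ({q, r} : Set ℕ)) (hK2 r hr h)
  have hKs : Group.IsSolvable K := inferInstance
  have hKnt : Nontrivial K := by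
    rw [← Finite.one_lt_card_iff_nontrivial]
    exact lt_of_lt_of_le hq.one_lt (Nat.le_of_dvd Nat.card_pos hqK)
  obtain ⟨M0, t, hM0n, hM01, ht, hM0t, -⟩ := exists_normal_elemAb K hKs
  -- `t` divides `|K|`
  obtain ⟨m0, hm0, hm01⟩ : ∃ m ∈ M0, m ≠ 1 := by
    by_contra h
    push Not at h
    exact hM01 ((Subgroup.eq_bot_iff_forall M0).mpr h)
  have hom0 : orderOf m0 = t := orderOf_eq_of_pow_prime ht (hM0t m0 hm0) hm01
  have htK : t ∣ Nat.card K := by rw [← hom0]; exact orderOf_dvd_natCard m0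
  have htqr : t = q ∨ t = r := by
    have := hK1 t ht htK
    simpa using this
  set M : Subgroup G := M0.map K.subtype with hMdef
  have hM1 : M ≠ ⊥ := by
    intro h
    exact hM01 ((Subgroup.map_eq_bot_iff_of_injective M0 K.subtype_injective).1 h)
  have hMt : ∀ x ∈ M, x ^ t = 1 := by
    rintro _ ⟨x, hx, rfl⟩
    have := hM0t x hx
    rw [← map_pow, this, map_one]
  have hnormK : ∀ k : K, ∀ m ∈ M, (k : G) * m * (k : G)⁻¹ ∈ M := by
    rintro k _ ⟨x, hx, rfl⟩
    exact ⟨k * x * k⁻¹, hM0n.conj_mem x hx k, by simp⟩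
  rcases htqr with rfl | rfl
  · -- `M` is a `q`-group; take `y` of order `r`
    have : Fact r.Prime := ⟨hr⟩
    obtain ⟨y, hy⟩ := exists_prime_orderOf_dvd_card' r hrK
    have hy' : orderOf (y : G) = r := by rw [Subgroup.orderOf_coe]; exact hy
    exact three_primes_aux p t r hp ht hr hpq hpr hqr N hN1 hNp hNc M hM1 hMt (y : G) hy'
      (hnormK y)
  · -- `M` is an `r`-group; take `y` of order `q`
    have : Fact q.Prime := ⟨hq⟩
    obtain ⟨y, hy⟩ := exists_prime_orderOf_dvd_card' q hqK
    have hy' : orderOf (y : G) = q := by rw [Subgroup.orderOf_coe]; exact hy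
    obtain ⟨g, hg⟩ := three_primes_aux p t q hp ht hq hpr hpq (Ne.symm hqr) N hN1 hNp hNc M hM1
      hMt (y : G) hy' (hnormK y)
    refine ⟨g, ?_⟩
    rcases hg with h | h | h
    · exact Or.inr (Or.inl h)
    · exact Or.inl h
    · exact Or.inr (Or.inr (by rw [h, mul_comm]))

/-- **Lucido's three primes lemma**: in a finite solvable group, among three distinct prime
divisors of the order, two are joined by an element whose order is their product. -/
theorem three_primes_aux2 (n : ℕ) : ∀ (G : Type u) [Group G] [Finite G], Nat.card G = n →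
    Group.IsSolvable G → ∀ (p q r : ℕ), p.Prime → q.Prime → r.Prime → p ≠ q → p ≠ r → q ≠ r →
    p ∣ Nat.card G → q ∣ Nat.card G → r ∣ Nat.card G →
    ∃ g : G, orderOf g = p * q ∨ orderOf g = p * r ∨ orderOf g = q * r := by
  induction n using Nat.strong_induction_on with
  | _ n ih =>
  intro G _ _ hcard hs p q r hp hq hr hpq hpr hqr hpG hqG hrG
  classical
  have hGnt : Nontrivial G := by
    rw [← Finite.one_lt_card_iff_nontrivial]
    exact lt_of_lt_of_le hp.one_lt (Nat.le_of_dvd Nat.card_pos hpG)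
  obtain ⟨N, s, hNn, hN1, hsp, hNs, hNc⟩ := exists_normal_elemAb G hs
  by_cases hsp' : s = p
  · subst hsp'
    exact three_primes_key hs s q r hsp hq hr hpq hpr hqr N hN1 hNs hNc hqG hrG
  by_cases hsq : s = q
  · subst hsq
    obtain ⟨g, hg⟩ := three_primes_key hs s p r hsp hp hr (Ne.symm hpq) hqr hpr N hN1 hNs hNc
      hpG hrG
    refine ⟨g, ?_⟩
    rcases hg with h | h | h
    · exact Or.inl (by rw [h, mul_comm])
    · exact Or.inr (Or.inr h)
    · exact Or.inr (Or.inl h)
  by_cases hsr : s = r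
  · subst hsr
    obtain ⟨g, hg⟩ := three_primes_key hs s p q hsp hp hq (Ne.symm hpr) (Ne.symm hqr) hpq N hN1
      hNs hNc hpG hqG
    refine ⟨g, ?_⟩
    rcases hg with h | h | h
    · exact Or.inr (Or.inl (by rw [h, mul_comm]))
    · exact Or.inr (Or.inr (by rw [h, mul_comm]))
    · exact Or.inl h
  -- `s ∉ {p, q, r}`: pass to `G ⧸ N`
  have : Fact s.Prime := ⟨hsp⟩
  have hNp : IsPGroup s N := fun x => ⟨1, by
    rw [pow_one]; exact Subtype.ext (hNs x x.2)⟩
  obtain ⟨k, hk⟩ := IsPGroup.iff_card.mp hNp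
  have hmul : Nat.card G = Nat.card (G ⧸ N) * Nat.card N :=
    Subgroup.card_eq_card_quotient_mul_card_subgroup N
  have hNcard : 1 < Nat.card N := by
    rw [Finite.one_lt_card_iff_nontrivial]
    exact (Subgroup.nontrivial_iff_ne_bot N).2 hN1
  have hlt : Nat.card (G ⧸ N) < n := by
    rw [← hcard, hmul]
    have hpos : 0 < Nat.card (G ⧸ N) := Nat.card_pos
    nlinarith
  have hdvd : ∀ a : ℕ, a.Prime → a ≠ s → a ∣ Nat.card G → a ∣ Nat.card (G ⧸ N) := by
    intro a ha has haG
    rw [hmul, hk] at haG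
    rcases (Nat.Prime.dvd_mul ha).mp haG with h | h
    · exact h
    · exact absurd ((Nat.prime_dvd_prime_iff_eq ha hsp).mp (ha.dvd_of_dvd_pow h)) has
  have hsQ : Group.IsSolvable (G ⧸ N) := by haveI := hs; infer_instance
  obtain ⟨gq, hgq⟩ := ih _ hlt (G ⧸ N) rfl hsQ p q r hp hq hr hpq hpr hqr
    (hdvd p hp (Ne.symm hsp') hpG) (hdvd q hq (Ne.symm hsq) hqG) (hdvd r hr (Ne.symm hsr) hrG)
  obtain ⟨g, rfl⟩ := QuotientGroup.mk_surjective gq
  have hod : orderOf (g : G ⧸ N) ∣ orderOf g := orderOf_map_dvd (QuotientGroup.mk' N) g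
  rcases hgq with h | h | h
  · obtain ⟨x, hx⟩ := exists_orderOf_eq_of_dvd g (p * q) (h ▸ hod)
    exact ⟨x, Or.inl hx⟩
  · obtain ⟨x, hx⟩ := exists_orderOf_eq_of_dvd g (p * r) (h ▸ hod)
    exact ⟨x, Or.inr (Or.inl hx)⟩
  · obtain ⟨x, hx⟩ := exists_orderOf_eq_of_dvd g (q * r) (h ▸ hod)
    exact ⟨x, Or.inr (Or.inr hx)⟩

/-- **Lucido's three primes lemma**. -/
theorem three_primes {G : Type u} [Group G] [Finite G] (hs : Group.IsSolvable G)
    (p q r : ℕ) (hp : p.Prime) (hq : q.Prime) (hr : r.Prime) (hpq : p ≠ q) (hpr : p ≠ r)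
    (hqr : q ≠ r) (hpG : p ∣ Nat.card G) (hqG : q ∣ Nat.card G) (hrG : r ∣ Nat.card G) :
    ∃ g : G, orderOf g = p * q ∨ orderOf g = p * r ∨ orderOf g = q * r :=
  three_primes_aux2 _ G rfl hs p q r hp hq hr hpq hpr hqr hpG hqG hrG

end Main

end Cfsg.Agent.Lib.Helper8
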