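import Mathlib

set_option autoImplicit false

namespace Cfsg.Agent.Lib.Helper8

/-- A `p`-subgroup `T ≤ H` which is not a Sylow `p`-subgroup of `H` (i.e. `p ∣ |H : T|`) is normalized
by some `p`-element of `H` outside `T`. -/
theorem exists_normalizing_of_dvd_relIndex {G : Type*} [Group G] [Finite G] {p : ℕ} [Fact p.Prime]
    (T H : Subgroup G) (hTH : T ≤ H) (hT : IsPGroup p T) (hdvd : p ∣ T.relIndex H) :
    ∃ x ∈ H, x ∉ T ∧ x ∈ Subgroup.normalizer (T : Set G) ∧ ∃ k : ℕ, x ^ (p ^ k) = 1 := by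
  -- T as a p-subgroup of ↥H
  have hT' : IsPGroup p (T.subgroupOf H) :=
    hT.of_equiv (Subgroup.subgroupOfEquivOfLe hTH).symm
  obtain ⟨R, hTR⟩ := hT'.exists_le_sylow
  have hne : T.subgroupOf H ≠ (R : Subgroup H) := by
    intro h
    have h1 : ¬ p ∣ (R : Subgroup H).index := R.not_dvd_index
    rw [← h] at h1
    exact h1 hdvd
  -- work inside ↥R
  have hnil : Group.IsNilpotent (R : Subgroup H) := R.isPGroup'.isNilpotent
  set T₁ : Subgroup (R : Subgroup H) := (T.subgroupOf H).subgroupOf (R : Subgroup H) with hT₁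
  have hT₁lt : T₁ < ⊤ := by
    rw [lt_top_iff_ne_top]
    intro h
    apply hne
    apply le_antisymm hTR
    rw [hT₁, Subgroup.subgroupOf_eq_top] at h
    exact h
  have hgrow := normalizerCondition_of_isNilpotent (G := (R : Subgroup H)) T₁ hT₁lt
  obtain ⟨y, hyN, hyT⟩ := SetLike.exists_of_lt hgrow
  refine ⟨((y : H) : G), (y : H).2, ?_, ?_, ?_⟩
  · intro hx
    apply hyT
    rw [hT₁, Subgroup.mem_subgroupOf, Subgroup.mem_subgroupOf]
    exact hx
  · -- normalizer
    rw [Subgroup.mem_normalizer_iff] at hyN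
    have key : ∀ (w : (R : Subgroup H)) (s : G), s ∈ T → ((w : H) : G) * s * ((w : H) : G)⁻¹ ∈ T →
        True := fun _ _ _ _ => trivial
    have hconj : ∀ (w : (R : Subgroup H)), w ∈ Subgroup.normalizer (T₁ : Set (R : Subgroup H)) →
        ∀ s ∈ T, ((w : H) : G) * s * ((w : H) : G)⁻¹ ∈ T := by
      intro w hw s hs
      rw [Subgroup.mem_normalizer_iff] at hw
      have hsH : s ∈ H := hTH hs
      have hsR : (⟨s, hsH⟩ : H) ∈ (R : Subgroup H) := hTR (by
        rw [Subgroup.mem_subgroupOf]; exact hs)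
      have hmem : (⟨⟨s, hsH⟩, hsR⟩ : (R : Subgroup H)) ∈ T₁ := by
        rw [hT₁, Subgroup.mem_subgroupOf, Subgroup.mem_subgroupOf]; exact hs
      have := (hw _).mp hmem
      rw [hT₁, Subgroup.mem_subgroupOf, Subgroup.mem_subgroupOf] at this
      simpa using this
    rw [Subgroup.mem_set_normalizer_iff]
    intro g
    constructor
    · exact hconj y hyN g
    · intro hg
      have hyinv : y⁻¹ ∈ Subgroup.normalizer (T₁ : Set (R : Subgroup H)) :=
        Subgroup.inv_mem _ hyN
      have := hconj y⁻¹ hyinv _ hg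
      have e : (((y⁻¹ : (R : Subgroup H)) : H) : G) * (((y : H) : G) * g * ((y : H) : G)⁻¹) *
          (((y⁻¹ : (R : Subgroup H)) : H) : G)⁻¹ = g := by
        simp only [Subgroup.coe_inv, inv_inv]; group
      rwa [e] at this
  · obtain ⟨k, hk⟩ := R.isPGroup' y
    refine ⟨k, ?_⟩
    have := congrArg (fun w : (R : Subgroup H) => ((w : H) : G)) hk
    simpa using this

/-- If `T ≤ K` is a `p`-subgroup with `p ∤ |K : T|`, no `p`-subgroup of `K` properly contains `T`. -/
theorem eq_of_isPGroup_of_not_dvd_relIndex {G : Type*} [Group G] [Finite G] {p : ℕ} [Fact p.Prime]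
    (T T' K : Subgroup G) (hTT' : T ≤ T') (hT'K : T' ≤ K) (hT' : IsPGroup p T')
    (hndvd : ¬ p ∣ T.relIndex K) : T' = T := by
  have hp : p.Prime := Fact.out
  have h1 := Subgroup.relIndex_mul_relIndex T T' K hTT' hT'K
  have h2 : ¬ p ∣ T.relIndex T' := fun h => hndvd (h1 ▸ Dvd.dvd.mul_right h _)
  -- relIndex T T' is a power of p
  obtain ⟨b, hb⟩ := (IsPGroup.iff_card).mp hT'
  have h3 : T.relIndex T' ∣ p ^ b := by
    rw [← hb]
    have := Subgroup.card_mul_index (T.subgroupOf T')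
    exact Dvd.intro_left _ this
  obtain ⟨c, _, hc⟩ := (Nat.dvd_prime_pow hp).mp h3
  have hc0 : c = 0 := by
    by_contra hc0
    apply h2
    rw [hc]
    exact dvd_pow_self p hc0
  rw [hc0, pow_zero] at hc
  exact le_antisymm (Subgroup.relIndex_eq_one.mp hc) hTT'

end Cfsg.Agent.Lib.Helper8
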