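import Cfsg.Agent.Lib.Helper8.Zsigmondy

/-!
# The primitive part of `a ^ n - 1` (helper8)

Structure of `Φ_n(a)`: it is `P` or `r * P` with `P` the primitive part, `r ∣ n` prime,
`P ≡ 1 [MOD n]`; and elementary lower bounds for `Φ_n(a)`.
-/

set_option autoImplicit false

namespace Cfsg.Agent.Lib.Helper8.Zsig

open Polynomial

/-- `Φ_n(a)` as a natural number. -/
noncomputable def natCyc (n a : ℕ) : ℕ := (cyc n a).natAbs

theorem natCyc_cast (n : ℕ) {a : ℕ} (ha : 1 < a) : ((natCyc n a : ℕ) : ℤ) = cyc n a :=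
  Int.natAbs_of_nonneg (cyc_pos n ha).le

theorem natCyc_pos (n : ℕ) {a : ℕ} (ha : 1 < a) : 0 < natCyc n a := by
  have h := cyc_pos n ha
  rw [← natCyc_cast n ha] at h
  exact_mod_cast h

theorem natCyc_dvd {n a : ℕ} (ha : 1 < a) (hn : 0 < n) : natCyc n a ∣ a ^ n - 1 := by
  have h := cyc_dvd_pow_sub_one (a := a) hn
  rw [← natCyc_cast n ha] at h
  have h1 : ((a ^ n - 1 : ℕ) : ℤ) = (a : ℤ) ^ n - 1 := by
    rw [Nat.cast_sub (Nat.one_le_pow _ _ (by omega))]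
    push_cast
    rfl
  rw [← h1] at h
  exact_mod_cast h

/-- A non-primitive prime divisor of `Φ_n(a)` divides `n`. -/
theorem non_primitive_dvd {n a r : ℕ} (ha : 1 < a) (hn : 1 < n) (hr : r.Prime)
    (hrN : r ∣ natCyc n a) (k : ℕ) (hk0 : 0 < k) (hkn : k < n) (hk : r ∣ a ^ k - 1) : r ∣ n := by
  have hrZ : (r : ℤ) ∣ cyc n a := by rw [← natCyc_cast n ha]; exact_mod_cast hrN
  obtain ⟨d, j, hd0, hdr, hj0, hnd, hxd⟩ :=
    structure_of_non_primitive ha hn hr hrZ k hk0 hkn hk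
  rw [hnd]
  exact dvd_mul_of_dvd_right (dvd_pow_self r hj0.ne') d

/-- For `n ≥ 3`, the square of a non-primitive prime does not divide `Φ_n(a)`. -/
theorem sq_not_dvd_of_non_primitive {n a r : ℕ} (ha : 1 < a) (hn : 3 ≤ n) (hr : r.Prime)
    (hrN : r ∣ natCyc n a) (k : ℕ) (hk0 : 0 < k) (hkn : k < n) (hk : r ∣ a ^ k - 1) :
    ¬ r ^ 2 ∣ natCyc n a := by
  have hn0 : 0 < n := by omega
  have hrZ : (r : ℤ) ∣ cyc n a := by rw [← natCyc_cast n ha]; exact_mod_cast hrN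
  obtain ⟨d, j, hd0, hdr, hj0, hnd, hxd⟩ :=
    structure_of_non_primitive ha (by omega) hr hrZ k hk0 hkn hk
  have hrn : r ∣ n := by
    rw [hnd]
    exact dvd_mul_of_dvd_right (dvd_pow_self r hj0.ne') d
  have hnr : n / r = d * r ^ (j - 1) := by
    rw [hnd]
    obtain ⟨j', rfl⟩ : ∃ j', j = j' + 1 := ⟨j - 1, by omega⟩
    rw [pow_succ, ← mul_assoc, Nat.mul_div_cancel _ hr.pos]
    simp
  haveI : Fact r.Prime := ⟨hr⟩
  have hc1 : (r : ℤ) ∣ (a : ℤ) ^ (n / r) - 1 := by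
    rw [int_dvd_pow_sub_one_iff, hnr, pow_mul, hxd, one_pow]
  have hgeo := cyc_dvd_geom_sum ha hn0 hr hrn
  intro hsq
  have hsqZ : (r : ℤ) ^ 2 ∣ ∑ i ∈ Finset.range r, ((a : ℤ) ^ (n / r)) ^ i := by
    refine dvd_trans ?_ hgeo
    rw [← natCyc_cast n ha]
    exact_mod_cast hsq
  rcases hr.eq_two_or_odd' with hr2 | hodd
  · -- `r = 2`
    have hd1 : d = 1 := by omega
    rw [hr2] at hsqZ hnd hnr hc1
    rw [hd1, one_mul] at hnd hnr
    have hsum : ∑ i ∈ Finset.range 2, ((a : ℤ) ^ (n / 2)) ^ i = 1 + (a : ℤ) ^ (n / 2) := by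
      simp [Finset.sum_range_succ]
    rw [hsum] at hsqZ
    rcases Nat.lt_or_ge j 2 with hj | hj
    · have hj1 : j = 1 := by omega
      rw [hj1, pow_one] at hnd
      omega
    · obtain ⟨j', rfl⟩ : ∃ j', j = j' + 2 := ⟨j - 2, by omega⟩
      have hnr' : n / 2 = 2 ^ j' * 2 := by
        rw [hnr]
        simp [pow_succ]
      rw [hnr', pow_mul] at hsqZ hc1
      set s : ℤ := (a : ℤ) ^ 2 ^ j' with hs
      have hsodd : Odd s := by
        have h5 : (2 : ℤ) ∣ s ^ 2 - 1 := by exact_mod_cast hc1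
        have h6 : Odd (s ^ 2) := by
          obtain ⟨w, hw⟩ := h5
          exact ⟨w, by linarith⟩
        exact (Int.odd_pow' (by norm_num)).mp h6
      have h7 := Int.sq_mod_four_eq_one_of_odd hsodd
      have h8 : ((2 : ℕ) : ℤ) ^ 2 = 4 := by norm_num
      rw [h8] at hsqZ
      omega
  · -- `r` odd
    have hprime : Prime (r : ℤ) := Nat.prime_iff_prime_int.mp hr
    have hnd' : ¬ (r : ℤ) ∣ (a : ℤ) ^ (n / r) := by
      intro h
      have h9 := (dvd_sub_right h).mp hc1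
      have h10 : (r : ℤ) ∣ 1 := (dvd_neg (α := ℤ)).mp (by simpa using h9) |> fun h => by simpa using h
      have := Int.isUnit_iff_natAbs_eq.mp (isUnit_of_dvd_one h10)
      simp at this
      exact hr.one_lt.ne' this
    have hmult := emultiplicity_geom_sum₂_eq_one (R := ℤ) (p := r) hprime hodd
      (x := (a : ℤ) ^ (n / r)) (y := 1) hc1 hnd'
    simp only [one_pow, mul_one] at hmult
    have : ¬ (r : ℤ) ^ 2 ∣ ∑ i ∈ Finset.range r, ((a : ℤ) ^ (n / r)) ^ i := by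
      rw [← emultiplicity_lt_iff_not_dvd, hmult]
      norm_num
    exact this hsqZ

/-- Two non-primitive prime divisors of `Φ_n(a)` coincide. -/
theorem non_primitive_unique {n a r r' : ℕ} (ha : 1 < a) (hn : 1 < n) (hr : r.Prime)
    (hr' : r'.Prime) (hrN : r ∣ natCyc n a) (hrN' : r' ∣ natCyc n a)
    (hnp : ∃ k, 0 < k ∧ k < n ∧ r ∣ a ^ k - 1) (hnp' : ∃ k, 0 < k ∧ k < n ∧ r' ∣ a ^ k - 1) :
    r = r' := by
  obtain ⟨k, hk0, hkn, hk⟩ := hnp
  obtain ⟨k', hk0', hkn', hk'⟩ := hnp'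
  have hrZ : (r : ℤ) ∣ cyc n a := by rw [← natCyc_cast n ha]; exact_mod_cast hrN
  have hrZ' : (r' : ℤ) ∣ cyc n a := by rw [← natCyc_cast n ha]; exact_mod_cast hrN'
  obtain ⟨d, j, hd0, hdr, hj0, hnd, -⟩ := structure_of_non_primitive ha hn hr hrZ k hk0 hkn hk
  obtain ⟨d', j', hd0', hdr', hj0', hnd', -⟩ :=
    structure_of_non_primitive ha hn hr' hrZ' k' hk0' hkn' hk'
  by_contra hne
  have h1 : r' ∣ d * r ^ j := by
    rw [← hnd, hnd']
    exact dvd_mul_of_dvd_right (dvd_pow_self r' hj0'.ne') d'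
  have h2 : r ∣ d' * r' ^ j' := by
    rw [← hnd', hnd]
    exact dvd_mul_of_dvd_right (dvd_pow_self r hj0.ne') d
  have h3 : r' ≤ d := by
    rcases (Nat.Prime.dvd_mul hr').mp h1 with h | h
    · exact Nat.le_of_dvd hd0 h
    · exact absurd ((Nat.prime_dvd_prime_iff_eq hr' hr).mp (hr'.dvd_of_dvd_pow h)).symm hne
  have h4 : r ≤ d' := by
    rcases (Nat.Prime.dvd_mul hr).mp h2 with h | h
    · exact Nat.le_of_dvd hd0' h
    · exact absurd ((Nat.prime_dvd_prime_iff_eq hr hr').mp (hr.dvd_of_dvd_pow h)) hne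
  omega

/-- A primitive prime divisor of `a ^ n - 1` is `≡ 1 [MOD n]`. -/
theorem dvd_sub_one_of_primitive {n a p : ℕ} (ha : 1 < a) (hn : 0 < n) (hp : p.Prime)
    (hpn : p ∣ a ^ n - 1) (hprim : ∀ k, 0 < k → k < n → ¬ p ∣ a ^ k - 1) : n ∣ p - 1 := by
  haveI : Fact p.Prime := ⟨hp⟩
  have ha0 : 0 < a := by omega
  set x : ZMod p := (a : ZMod p) with hx
  have hxn : x ^ n = 1 := (dvd_pow_sub_one_iff p a n ha0).mp hpn
  have hx0 : x ≠ 0 := by
    intro h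
    rw [h, zero_pow hn.ne'] at hxn
    exact zero_ne_one hxn
  have hdn : orderOf x ∣ n := orderOf_dvd_of_pow_eq_one hxn
  have hd0 : 0 < orderOf x := Nat.pos_of_dvd_of_pos hdn hn
  have hord : orderOf x = n := by
    by_contra hne
    have hlt : orderOf x < n := lt_of_le_of_ne (Nat.le_of_dvd hn hdn) hne
    exact hprim _ hd0 hlt ((dvd_pow_sub_one_iff p a _ ha0).mpr (pow_orderOf_eq_one x))
  rw [← hord]
  exact orderOf_dvd_of_pow_eq_one (ZMod.pow_card_sub_one_eq_one hx0)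

/-- A positive number all of whose prime factors are `≡ 1 [MOD n]` is `≡ 1 [MOD n]`. -/
theorem modEq_one_of_prime_factors {n : ℕ} : ∀ P : ℕ, 0 < P →
    (∀ p : ℕ, p.Prime → p ∣ P → p ≡ 1 [MOD n]) → P ≡ 1 [MOD n] := by
  intro P
  induction P using Nat.strong_induction_on with
  | _ P ih =>
    intro hP h
    rcases Nat.lt_or_ge P 2 with h1 | h2
    · have : P = 1 := by omega
      rw [this]
    · have hp : (P.minFac).Prime := Nat.minFac_prime (by omega)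
      obtain ⟨Q, hQ⟩ := Nat.minFac_dvd P
      have hQ0 : 0 < Q := by
        rcases Nat.eq_zero_or_pos Q with h0 | h0
        · rw [h0, mul_zero] at hQ; omega
        · exact h0
      have hQlt : Q < P := by
        have h5 : 1 * Q < P.minFac * Q := Nat.mul_lt_mul_of_pos_right hp.one_lt hQ0
        rw [one_mul, ← hQ] at h5
        exact h5
      have hQd : Q ∣ P := ⟨P.minFac, by rw [mul_comm]; exact hQ⟩
      have h3 := ih Q hQlt hQ0 (fun p hpp hpQ => h p hpp (hpQ.trans hQd))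
      have h4 := h _ hp (Nat.minFac_dvd P)
      have h5 : P.minFac * Q ≡ 1 * 1 [MOD n] := Nat.ModEq.mul h4 h3
      rw [one_mul, ← hQ] at h5
      exact h5

/-- **The primitive part** of `a ^ n - 1`, for `n ≥ 3`. -/
theorem exists_primitive_part {n a : ℕ} (ha : 1 < a) (hn : 3 ≤ n) :
    ∃ P : ℕ, 0 < P ∧ P ∣ a ^ n - 1 ∧ (∀ k, 0 < k → k < n → Nat.Coprime P (a ^ k - 1)) ∧
      (∀ p : ℕ, p.Prime → p ∣ P → p ≡ 1 [MOD n]) ∧ P ≡ 1 [MOD n] ∧ natCyc n a ≤ n * P := by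
  set N := natCyc n a with hN
  have hN0 : 0 < N := natCyc_pos n ha
  have hNdvd : N ∣ a ^ n - 1 := natCyc_dvd ha (by omega)
  suffices h : ∃ P : ℕ, 0 < P ∧ P ∣ N ∧
      (∀ p : ℕ, p.Prime → p ∣ P → ∀ k, 0 < k → k < n → ¬ p ∣ a ^ k - 1) ∧ N ≤ n * P by
    obtain ⟨P, hP0, hPN, hprim, hle⟩ := h
    have hmod : ∀ p : ℕ, p.Prime → p ∣ P → p ≡ 1 [MOD n] := by
      intro p hp hpP
      have := dvd_sub_one_of_primitive ha (by omega) hp ((hpP.trans hPN).trans hNdvd)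
        (hprim p hp hpP)
      exact ((Nat.modEq_iff_dvd' hp.one_lt.le).mpr this).symm
    refine ⟨P, hP0, hPN.trans hNdvd, ?_, hmod, modEq_one_of_prime_factors P hP0 hmod, hle⟩
    intro k hk0 hkn
    apply Nat.coprime_of_dvd
    intro p hp hpP hpk
    exact hprim p hp hpP k hk0 hkn hpk
  by_cases hex : ∃ r : ℕ, r.Prime ∧ r ∣ N ∧ ∃ k, 0 < k ∧ k < n ∧ r ∣ a ^ k - 1
  · obtain ⟨r, hr, hrN, k, hk0, hkn, hk⟩ := hex
    have hrn : r ∣ n := non_primitive_dvd ha (by omega) hr hrN k hk0 hkn hk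
    obtain ⟨P, hP⟩ := hrN
    have hP0 : 0 < P := by
      rcases Nat.eq_zero_or_pos P with h0 | h0
      · rw [h0, mul_zero] at hP; omega
      · exact h0
    refine ⟨P, hP0, ⟨r, by rw [hP, mul_comm]⟩, ?_, ?_⟩
    · intro p hp hpP k' hk0' hkn' hk'
      have hpN : p ∣ N := by rw [hP]; exact dvd_mul_of_dvd_right hpP r
      have heq := non_primitive_unique ha (by omega) hp hr hpN ⟨P, hP⟩ ⟨k', hk0', hkn', hk'⟩
        ⟨k, hk0, hkn, hk⟩
      subst heq
      apply sq_not_dvd_of_non_primitive ha hn hp ⟨P, hP⟩ k hk0 hkn hk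
      rw [← hN, hP, pow_two]
      exact mul_dvd_mul_left p hpP
    · rw [hP]
      exact Nat.mul_le_mul_right P (Nat.le_of_dvd (by omega) hrn)
  · push_neg at hex
    refine ⟨N, hN0, dvd_rfl, ?_, ?_⟩
    · intro p hp hpN k hk0 hkn hk
      exact hex p hp hpN k hk0 hkn hk
    · exact Nat.le_mul_of_pos_left N (by omega)

/-! ### Lower bounds -/

theorem cyc_le_add_one_pow (m : ℕ) {y : ℕ} (hy : 1 < y) :
    cyc m y ≤ ((y : ℤ) + 1) ^ m.totient := by
  have h := cyclotomic_eval_le_add_one_pow_totient (q := (y : ℝ)) (by exact_mod_cast hy) m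
  have h2 := cyclotomic.eval_apply ((y : ℤ)) m (algebraMap ℤ ℝ)
  have h3 : ((cyc m y : ℤ) : ℝ) ≤ ((((y : ℤ) + 1) ^ m.totient : ℤ) : ℝ) := by
    unfold cyc
    push_cast
    simp only [eq_intCast, Int.cast_natCast] at h2
    rw [← h2]
    exact h
  exact_mod_cast h3

theorem sub_one_pow_le_cyc (m : ℕ) {y : ℕ} (hy : 1 < y) :
    ((y : ℤ) - 1) ^ m.totient ≤ cyc m y := by
  have h := sub_one_pow_totient_le_cyclotomic_eval (q := (y : ℝ)) (by exact_mod_cast hy) m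
  have h2 := cyclotomic.eval_apply ((y : ℤ)) m (algebraMap ℤ ℝ)
  have h3 : ((((y : ℤ) - 1) ^ m.totient : ℤ) : ℝ) ≤ ((cyc m y : ℤ) : ℝ) := by
    unfold cyc
    push_cast
    simp only [eq_intCast, Int.cast_natCast] at h2
    rw [← h2]
    exact h
  exact_mod_cast h3

theorem cyc_prime_pow_mul {m p : ℕ} (hp : p.Prime) :
    ∀ (j a : ℕ), cyc (m * p ^ (j + 1)) a = cyc (m * p) (a ^ p ^ j) := by
  intro j
  induction j with
  | zero => intro a; simp
  | succ j ih =>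
    intro a
    have h1 : m * p ^ (j + 1 + 1) = (m * p ^ (j + 1)) * p := by ring
    rw [h1, cyc_mul_prime_of_dvd hp (dvd_mul_of_dvd_right (dvd_pow_self p (by omega)) m),
      ih (a ^ p), ← pow_mul, ← pow_succ']

theorem pow_le_cyc {m p : ℕ} (hp : p.Prime) (hpm : ¬ p ∣ m) {y : ℕ} (hy : 1 < y) :
    ((y : ℤ) ^ (p - 2) * ((y : ℤ) - 1)) ^ m.totient ≤ cyc (m * p) y := by
  have hmul := cyc_mul_prime_of_not_dvd (a := y) hp hpm
  have hup := cyc_le_add_one_pow m hy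
  have hyp : 1 < y ^ p := Nat.one_lt_pow hp.pos.ne' hy
  have hlo := sub_one_pow_le_cyc m hyp
  have hy1 : (1 : ℤ) ≤ (y : ℤ) := by exact_mod_cast hy.le
  have hc : ((y : ℤ) + 1) * ((y : ℤ) ^ (p - 2) * ((y : ℤ) - 1)) ≤ (y : ℤ) ^ p - 1 := by
    obtain ⟨k, rfl⟩ : ∃ k, p = k + 2 := ⟨p - 2, by have := hp.two_le; omega⟩
    simp only [Nat.add_sub_cancel]
    have h1 : (1 : ℤ) ≤ (y : ℤ) ^ k := one_le_pow₀ hy1
    have h2 : (y : ℤ) ^ (k + 2) = (y : ℤ) ^ k * (y : ℤ) ^ 2 := pow_add _ _ _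
    nlinarith
  have hc0 : (0 : ℤ) ≤ ((y : ℤ) + 1) * ((y : ℤ) ^ (p - 2) * ((y : ℤ) - 1)) := by
    have : (0 : ℤ) ≤ (y : ℤ) ^ (p - 2) := by positivity
    have : (0 : ℤ) ≤ (y : ℤ) - 1 := by linarith
    positivity
  have h1 : (((y : ℤ) + 1) * ((y : ℤ) ^ (p - 2) * ((y : ℤ) - 1))) ^ m.totient ≤
      cyc (m * p) y * ((y : ℤ) + 1) ^ m.totient := by
    calc (((y : ℤ) + 1) * ((y : ℤ) ^ (p - 2) * ((y : ℤ) - 1))) ^ m.totient
        ≤ ((y : ℤ) ^ p - 1) ^ m.totient := pow_le_pow_left₀ hc0 hc _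
      _ ≤ cyc m (y ^ p) := by
          have := hlo
          push_cast at this
          exact this
      _ = cyc (m * p) y * cyc m y := hmul.symm
      _ ≤ cyc (m * p) y * ((y : ℤ) + 1) ^ m.totient :=
          mul_le_mul_of_nonneg_left hup (cyc_pos _ hy).le
  rw [mul_pow, mul_comm] at h1
  exact le_of_mul_le_mul_right h1 (pow_pos (by linarith) _)

/-- The basic lower bound: for `n = m * p ^ (j+1)`, `p ∤ m`, `y = a ^ p ^ j`:
`(y ^ (p-2) * (y - 1)) ^ φ(m) ≤ Φ_n(a)`. -/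
theorem pow_le_natCyc {m p : ℕ} (hp : p.Prime) (hpm : ¬ p ∣ m) {a : ℕ} (ha : 1 < a) (j : ℕ) :
    ((a ^ p ^ j) ^ (p - 2) * (a ^ p ^ j - 1)) ^ m.totient ≤ natCyc (m * p ^ (j + 1)) a := by
  have hy : 1 < a ^ p ^ j := Nat.one_lt_pow (pow_pos hp.pos j).ne' ha
  have h := pow_le_cyc hp hpm hy
  rw [← cyc_prime_pow_mul hp j a, ← natCyc_cast _ ha] at h
  have h2 : ((((a ^ p ^ j) ^ (p - 2) * (a ^ p ^ j - 1)) ^ m.totient : ℕ) : ℤ) =
      (((a ^ p ^ j : ℕ) : ℤ) ^ (p - 2) * (((a ^ p ^ j : ℕ) : ℤ) - 1)) ^ m.totient := by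
    rw [Nat.cast_pow, Nat.cast_mul, Nat.cast_pow, Nat.cast_sub hy.le]
    simp
  rw [← h2] at h
  exact_mod_cast h

/-! ### `m ≤ 2 φ(m)²` -/

theorem odd_le_totient_sq : ∀ m : ℕ, Odd m → m ≤ m.totient ^ 2 := by
  intro m
  induction m using Nat.recOnPosPrimePosCoprime with
  | prime_pow p k hp hk =>
    intro hodd
    have hpodd : Odd p := (Nat.odd_pow_iff hk.ne').mp hodd
    have hp3 : 3 ≤ p := by
      rcases hp.eq_two_or_odd' with h | h
      · rw [h] at hpodd; exact absurd hpodd (by decide)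
      · have := hp.two_le
        rcases h with ⟨t, ht⟩
        omega
    rw [Nat.totient_prime_pow hp hk]
    obtain ⟨k', rfl⟩ : ∃ k', k = k' + 1 := ⟨k - 1, by omega⟩
    simp only [Nat.add_sub_cancel]
    have hq : 1 ≤ p ^ k' := Nat.one_le_pow _ _ hp.pos
    have h1 : p ≤ (p - 1) ^ 2 := by
      obtain ⟨t, rfl⟩ : ∃ t, p = t + 3 := ⟨p - 3, by omega⟩
      simp only [Nat.add_sub_cancel, show t + 3 - 1 = t + 2 by omega]
      nlinarith
    calc p ^ (k' + 1) = p ^ k' * p := pow_succ _ _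
      _ ≤ (p ^ k') ^ 2 * (p - 1) ^ 2 :=
          Nat.mul_le_mul (Nat.le_self_pow two_ne_zero _) h1
      _ = (p ^ k' * (p - 1)) ^ 2 := (mul_pow _ _ _).symm
  | zero => intro h; exact absurd h (by decide)
  | one => intro _; simp
  | coprime a b ha hb hab iha ihb =>
    intro hodd
    obtain ⟨hoa, hob⟩ := Nat.odd_mul.mp hodd
    rw [Nat.totient_mul hab, mul_pow]
    exact Nat.mul_le_mul (iha hoa) (ihb hob)

theorem le_two_mul_totient_sq (m : ℕ) (hm : 0 < m) : m ≤ 2 * m.totient ^ 2 := by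
  obtain ⟨k, m', hodd, rfl⟩ := Nat.exists_eq_two_pow_mul_odd hm.ne'
  have hcop : Nat.Coprime (2 ^ k) m' :=
    Nat.Coprime.pow_left k (Nat.coprime_two_left.mpr hodd)
  rw [Nat.totient_mul hcop, mul_pow]
  have h1 := odd_le_totient_sq m' hodd
  have h2 : 2 ^ k ≤ 2 * (2 ^ k).totient ^ 2 := by
    rcases k with _ | k
    · simp
    · rw [Nat.totient_prime_pow Nat.prime_two (by omega)]
      simp only [Nat.add_one_sub_one, mul_one]
      have : 2 ^ k ≤ (2 ^ k) ^ 2 := Nat.le_self_pow two_ne_zero _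
      rw [pow_succ]
      omega
  exact le_trans (Nat.mul_le_mul h2 h1) (le_of_eq (by ring))

end Cfsg.Agent.Lib.Helper8.Zsig
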