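import Cfsg.Agent.Lib.Helper8.PrimPart

/-!
# `n (2n+1) < Φ_n(a)` outside 41 small pairs (helper8)
-/

set_option autoImplicit false

namespace Cfsg.Agent.Lib.Helper8.Zsig

/-- The small pairs `(a, n)` for which our lower bound for `Φ_n(a)` does not beat `n (2n+1)`. -/
def smallPairs : List (ℕ × ℕ) :=
  [(2,3),(3,3),(4,3),(5,3),(2,4),(3,4),(4,4),(5,4),(6,4),(2,5),(3,5),(2,6),(3,6),(4,6),(5,6),
   (6,6),(7,6),(8,6),(9,6),(2,7),(2,8),(3,8),(2,9),(2,10),(3,10),(4,10),(2,12),(3,12),(4,12),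
   (2,14),(2,15),(2,16),(2,18),(2,20),(2,22),(2,24),(2,28),(2,30),(2,42),(2,48),(2,60)]

/-- `GG Q u = 2u²Q (4u²Q + 1)`, an upper bound for `n (2n+1)` when `n = m Q`, `m ≤ 2u²`. -/
def GG (Q u : ℕ) : ℕ := 2 * u ^ 2 * Q * (4 * u ^ 2 * Q + 1)

theorem GG_eq (Q u : ℕ) : GG Q u = 2 * (u ^ 2 * Q) * (4 * (u ^ 2 * Q) + 1) := by
  unfold GG; ring

theorem GG_step16 (Q u : ℕ) (hu : 1 ≤ u) : GG Q (u + 1) ≤ 16 * GG Q u := by
  rw [GG_eq, GG_eq]
  have h1 : (u + 1) ^ 2 ≤ 4 * u ^ 2 := by nlinarith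
  have h2 : (u + 1) ^ 2 * Q ≤ 4 * (u ^ 2 * Q) := by
    calc (u + 1) ^ 2 * Q ≤ (4 * u ^ 2) * Q := Nat.mul_le_mul_right Q h1
      _ = 4 * (u ^ 2 * Q) := by ring
  set X := u ^ 2 * Q
  set X' := (u + 1) ^ 2 * Q
  nlinarith [Nat.mul_le_mul h2 h2]

theorem GG_step8 (Q u : ℕ) (hu : 2 ≤ u) : GG Q (u + 1) ≤ 8 * GG Q u := by
  rw [GG_eq, GG_eq]
  have h1 : 4 * (u + 1) ^ 2 ≤ 9 * u ^ 2 := by nlinarith
  have h2 : 4 * ((u + 1) ^ 2 * Q) ≤ 9 * (u ^ 2 * Q) := by
    calc 4 * ((u + 1) ^ 2 * Q) = (4 * (u + 1) ^ 2) * Q := by ring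
      _ ≤ (9 * u ^ 2) * Q := Nat.mul_le_mul_right Q h1
      _ = 9 * (u ^ 2 * Q) := by ring
  set X := u ^ 2 * Q
  set X' := (u + 1) ^ 2 * Q
  nlinarith [Nat.mul_le_mul h2 h2]

theorem GG_lt_pow_of_base {K c Q u₀ : ℕ} (hK0 : 0 < K) (hK : K ≤ c)
    (hstep : ∀ u, u₀ ≤ u → GG Q (u + 1) ≤ K * GG Q u) (hbase : GG Q u₀ < c ^ u₀) :
    ∀ u, u₀ ≤ u → GG Q u < c ^ u := by
  intro u hu
  induction u, hu using Nat.le_induction with
  | base => exact hbase
  | succ u hu ih =>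
    calc GG Q (u + 1) ≤ K * GG Q u := hstep u hu
      _ < K * c ^ u := Nat.mul_lt_mul_of_pos_left ih hK0
      _ ≤ c * c ^ u := Nat.mul_le_mul_right _ hK
      _ = c ^ (u + 1) := (pow_succ' c u).symm

theorem GG_lt_pow_16 {c Q u₀ : ℕ} (hc : 16 ≤ c) (hu₀ : 1 ≤ u₀) (hbase : GG Q u₀ < c ^ u₀) :
    ∀ u, u₀ ≤ u → GG Q u < c ^ u :=
  GG_lt_pow_of_base (K := 16) (by norm_num) hc (fun u hu => GG_step16 Q u (by omega)) hbase

theorem GG_lt_pow_8 {c Q u₀ : ℕ} (hc : 8 ≤ c) (hu₀ : 2 ≤ u₀) (hbase : GG Q u₀ < c ^ u₀) :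
    ∀ u, u₀ ≤ u → GG Q u < c ^ u :=
  GG_lt_pow_of_base (K := 8) (by norm_num) hc (fun u hu => GG_step8 Q u (by omega)) hbase

theorem lt_pow_mono {g c₁ c u : ℕ} (h : g < c₁ ^ u) (hc : c₁ ≤ c) : g < c ^ u :=
  lt_of_lt_of_le h (Nat.pow_le_pow_left hc u)

theorem mono_c {a₁ a k : ℕ} (h : a₁ ≤ a) : a₁ ^ k * (a₁ - 1) ≤ a ^ k * (a - 1) :=
  Nat.mul_le_mul (Nat.pow_le_pow_left h k) (Nat.sub_le_sub_right h 1)

theorem two_pow_gt_r : ∀ r : ℕ, 13 ≤ r → 2 * r * (4 * r + 1) < 2 ^ (r - 2) := by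
  intro r hr
  induction r, hr using Nat.le_induction with
  | base => norm_num
  | succ r hr ih =>
    have h1 : r + 1 - 2 = (r - 2) + 1 := by omega
    rw [h1, pow_succ]
    nlinarith

theorem eight_pow_gt : ∀ x : ℕ, 5 ≤ x → 2 * x ^ 2 * (4 * x ^ 2 + 1) < 8 ^ x := by
  intro x hx
  induction x, hx using Nat.le_induction with
  | base => norm_num
  | succ x hx ih =>
    rw [pow_succ 8 x]
    have h1 : (x + 1) ^ 2 ≤ 2 * x ^ 2 := by nlinarith
    set X := x ^ 2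
    set X' := (x + 1) ^ 2
    nlinarith [Nat.mul_le_mul h1 h1]

/-- The exceptional parameter region for primes `r ≥ 5`. -/
def FF (a r j u : ℕ) : Prop :=
  j = 0 ∧ ((r = 5 ∧ ((a = 2 ∧ u ≤ 5) ∨ (a = 3 ∧ u ≤ 2) ∨ (a = 4 ∧ u = 1))) ∨
    (r = 7 ∧ a = 2 ∧ u ≤ 2) ∨ (r = 11 ∧ a = 2 ∧ u = 1))

theorem GG_lt_of_prime_ge_five {a r j u : ℕ} (ha : 2 ≤ a) (hr : r.Prime) (hr5 : 5 ≤ r)
    (hu : 1 ≤ u) (hF : ¬ FF a r j u) :
    GG (r ^ (j + 1)) u < ((a ^ r ^ j) ^ (r - 2) * (a ^ r ^ j - 1)) ^ u := by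
  rcases Nat.eq_zero_or_pos j with hj | hj
  · -- `j = 0`
    subst hj
    simp only [pow_zero, pow_one, zero_add]
    rcases Nat.lt_or_ge r 13 with hr13 | hr13
    · have hF' : ¬ ((r = 5 ∧ ((a = 2 ∧ u ≤ 5) ∨ (a = 3 ∧ u ≤ 2) ∨ (a = 4 ∧ u = 1))) ∨
          (r = 7 ∧ a = 2 ∧ u ≤ 2) ∨ (r = 11 ∧ a = 2 ∧ u = 1)) := fun h => hF ⟨rfl, h⟩
      interval_cases r
      · -- r = 5
        simp only [show (5 : ℕ) - 2 = 3 by norm_num]
        rcases Nat.lt_or_ge a 5 with ha5 | ha5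
        · interval_cases a
          · -- a = 2, c = 8
            have hu6 : 6 ≤ u := by
              by_contra h
              exact hF' (Or.inl ⟨rfl, Or.inl ⟨rfl, by omega⟩⟩)
            exact GG_lt_pow_8 (c := 2 ^ 3 * (2 - 1)) (by norm_num) (by norm_num)
              (by norm_num [GG]) u hu6
          · -- a = 3, c = 54
            have hu3 : 3 ≤ u := by
              by_contra h
              exact hF' (Or.inl ⟨rfl, Or.inr (Or.inl ⟨rfl, by omega⟩)⟩)
            exact GG_lt_pow_16 (c := 3 ^ 3 * (3 - 1)) (by norm_num) (by norm_num)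
              (by norm_num [GG]) u hu3
          · -- a = 4, c = 192
            have hu2 : 2 ≤ u := by
              by_contra h
              exact hF' (Or.inl ⟨rfl, Or.inr (Or.inr ⟨rfl, by omega⟩)⟩)
            exact GG_lt_pow_16 (c := 4 ^ 3 * (4 - 1)) (by norm_num) (by norm_num)
              (by norm_num [GG]) u hu2
        · have h1 := GG_lt_pow_16 (c := 5 ^ 3 * (5 - 1)) (Q := 5) (by norm_num) le_rfl
            (by norm_num [GG]) u hu
          exact lt_pow_mono h1 (mono_c ha5)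
      · exact absurd hr (by norm_num)
      · -- r = 7
        simp only [show (7 : ℕ) - 2 = 5 by norm_num]
        rcases Nat.lt_or_ge a 3 with ha3 | ha3
        · have ha2 : a = 2 := by omega
          subst ha2
          have hu3 : 3 ≤ u := by
            by_contra h
            exact hF' (Or.inr (Or.inl ⟨rfl, rfl, by omega⟩))
          exact GG_lt_pow_16 (c := 2 ^ 5 * (2 - 1)) (by norm_num) (by norm_num)
            (by norm_num [GG]) u hu3
        · have h1 := GG_lt_pow_16 (c := 3 ^ 5 * (3 - 1)) (Q := 7) (by norm_num) le_rfl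
            (by norm_num [GG]) u hu
          exact lt_pow_mono h1 (mono_c ha3)
      · exact absurd hr (by norm_num)
      · exact absurd hr (by norm_num)
      · exact absurd hr (by norm_num)
      · -- r = 11
        simp only [show (11 : ℕ) - 2 = 9 by norm_num]
        rcases Nat.lt_or_ge a 3 with ha3 | ha3
        · have ha2 : a = 2 := by omega
          subst ha2
          have hu2 : 2 ≤ u := by
            by_contra h
            exact hF' (Or.inr (Or.inr ⟨rfl, rfl, by omega⟩))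
          exact GG_lt_pow_16 (c := 2 ^ 9 * (2 - 1)) (by norm_num) (by norm_num)
            (by norm_num [GG]) u hu2
        · have h1 := GG_lt_pow_16 (c := 3 ^ 9 * (3 - 1)) (Q := 11) (by norm_num) le_rfl
            (by norm_num [GG]) u hu
          exact lt_pow_mono h1 (mono_c ha3)
      · exact absurd hr (by norm_num)
    · -- r ≥ 13
      have h1 : 2 ^ (r - 2) * (2 - 1) ≤ a ^ (r - 2) * (a - 1) := mono_c ha
      have h2 := two_pow_gt_r r hr13
      have h3 : 2 ^ 11 ≤ 2 ^ (r - 2) := Nat.pow_le_pow_right (by norm_num) (by omega)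
      have h4 := GG_lt_pow_16 (c := 2 ^ (r - 2) * (2 - 1)) (Q := r) (u₀ := 1)
        (by norm_num at h3 ⊢; omega) le_rfl
        (by
          have : GG r 1 = 2 * r * (4 * r + 1) := by unfold GG; ring
          rw [this, pow_one]
          simpa using h2) u hu
      exact lt_pow_mono h4 h1
  · -- `j ≥ 1`
    set x := r ^ j with hx
    have hrx : r ≤ x := by
      calc r = r ^ 1 := (pow_one r).symm
        _ ≤ r ^ j := Nat.pow_le_pow_right hr.pos hj
    have hx5 : 5 ≤ x := hr5.trans hrx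
    set y := a ^ x with hy
    have hy2 : 2 ^ x ≤ y := Nat.pow_le_pow_left ha x
    have hy1 : 1 ≤ y - 1 := by
      have : 2 ^ 1 ≤ 2 ^ x := Nat.pow_le_pow_right (by norm_num) (by omega)
      omega
    have hc : 8 ^ x ≤ y ^ (r - 2) * (y - 1) := by
      calc 8 ^ x = (2 ^ x) ^ 3 := by rw [← pow_mul, mul_comm, pow_mul]; norm_num
        _ ≤ y ^ 3 := Nat.pow_le_pow_left hy2 3
        _ ≤ y ^ (r - 2) := Nat.pow_le_pow_right (by omega) (by omega)
        _ = y ^ (r - 2) * 1 := (mul_one _).symm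
        _ ≤ y ^ (r - 2) * (y - 1) := Nat.mul_le_mul_left _ hy1
    have hQ : r ^ (j + 1) ≤ x ^ 2 := by
      rw [pow_succ, pow_two]
      exact Nat.mul_le_mul_left _ hrx
    have h8 := eight_pow_gt x hx5
    have hG1 : GG (r ^ (j + 1)) 1 < 8 ^ x := by
      have : GG (r ^ (j + 1)) 1 = 2 * r ^ (j + 1) * (4 * r ^ (j + 1) + 1) := by unfold GG; ring
      rw [this]
      calc 2 * r ^ (j + 1) * (4 * r ^ (j + 1) + 1) ≤ 2 * x ^ 2 * (4 * x ^ 2 + 1) := by
            apply Nat.mul_le_mul (Nat.mul_le_mul_left _ hQ)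
            omega
        _ < 8 ^ x := h8
    have h16 : 16 ≤ 8 ^ x := by
      calc 16 ≤ 8 ^ 5 := by norm_num
        _ ≤ 8 ^ x := Nat.pow_le_pow_right (by norm_num) hx5
    have h4 := GG_lt_pow_16 (c := 8 ^ x) (Q := r ^ (j + 1)) (u₀ := 1) h16 le_rfl
      (by rw [pow_one]; exact hG1) u hu
    exact lt_pow_mono h4 hc

/-! ### The finite region for `r ≥ 5` -/

theorem totient_le_five : ∀ m : ℕ, m ≤ 50 → 0 < m → Nat.totient m ≤ 5 →
    m ∈ [1, 2, 3, 4, 5, 6, 8, 10, 12] := by decide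

theorem small_check : ∀ a ∈ [2, 3, 4], ∀ r ∈ [5, 7, 11], ∀ m ∈ [1, 2, 3, 4, 5, 6, 8, 10, 12],
    ¬ r ∣ m → (a, m * r) ∉ smallPairs →
    (m * r) * (2 * (m * r) + 1) < (a ^ (r - 2) * (a - 1)) ^ (Nat.totient m) := by decide

/-! ### Powers of two and three -/

theorem dbl_step {c A e : ℕ} (h : A * (2 * A + 1) < c ^ e) :
    (2 * A) * (2 * (2 * A) + 1) < c ^ (2 * e) := by
  have h1 : c ^ (2 * e) = (c ^ e) ^ 2 := by rw [mul_comm, pow_mul]
  rw [h1]
  set B := c ^ e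
  have h2 : A * (2 * A + 1) + 1 ≤ B := h
  rcases Nat.eq_zero_or_pos A with hA | hA
  · subst hA
    have : 1 ≤ B := by omega
    nlinarith
  · set S := A * (2 * A + 1) with hS
    have hS3 : 3 ≤ S := by nlinarith
    have h3 : 3 * S ≤ S * S := Nat.mul_le_mul_right S hS3
    have h4 : (S + 1) * (S + 1) ≤ B * B := Nat.mul_le_mul h2 h2
    have h5 : 2 * A * (2 * (2 * A) + 1) < 5 * S + 1 := by nlinarith
    nlinarith

theorem dbl_chain {c Q : ℕ} (i₀ : ℕ) (hi₀ : 1 ≤ i₀)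
    (hbase : (2 ^ i₀ * Q) * (2 * (2 ^ i₀ * Q) + 1) < c ^ (2 ^ (i₀ - 1))) :
    ∀ i, i₀ ≤ i → (2 ^ i * Q) * (2 * (2 ^ i * Q) + 1) < c ^ (2 ^ (i - 1)) := by
  intro i hi
  induction i, hi using Nat.le_induction with
  | base => exact hbase
  | succ i hi ih =>
    have h1 : 2 ^ (i + 1) * Q = 2 * (2 ^ i * Q) := by ring
    have h2 : 2 ^ (i + 1 - 1) = 2 * 2 ^ (i - 1) := by
      obtain ⟨i', rfl⟩ : ∃ i', i = i' + 1 := ⟨i - 1, by omega⟩
      simp [pow_succ, mul_comm]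
    rw [h1, h2]
    exact dbl_step ih

theorem two_pow_ge_lin : ∀ x : ℕ, 7 ≤ x → 12 * x + 2 ≤ 2 ^ x := by
  intro x hx
  induction x, hx using Nat.le_induction with
  | base => norm_num
  | succ x hx ih => rw [pow_succ]; omega

theorem three_big {x : ℕ} (hx : 9 ≤ x) : 2 * (3 * x) * (4 * (3 * x) + 1) < 2 ^ x * (2 ^ x - 1) := by
  have h1 := two_pow_ge_lin x (by omega)
  have h2 : 12 * x + 1 ≤ 2 ^ x - 1 := by omega
  calc 2 * (3 * x) * (4 * (3 * x) + 1) < (12 * x + 2) * (12 * x + 1) := by nlinarith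
    _ ≤ 2 ^ x * (2 ^ x - 1) := Nat.mul_le_mul h1 h2

theorem mono_c1 {y₁ y : ℕ} (h : y₁ ≤ y) : y₁ ^ (3 - 2) * (y₁ - 1) ≤ y ^ (3 - 2) * (y - 1) :=
  mono_c h

theorem totient_two_pow {i : ℕ} (hi : 1 ≤ i) : Nat.totient (2 ^ i) = 2 ^ (i - 1) := by
  rw [Nat.totient_prime_pow Nat.prime_two (by omega)]
  simp

theorem three_case {a i k : ℕ} (ha : 2 ≤ a) (hnot : (a, 2 ^ i * 3 ^ (k + 1)) ∉ smallPairs) :
    (2 ^ i * 3 ^ (k + 1)) * (2 * (2 ^ i * 3 ^ (k + 1)) + 1) <
      ((a ^ 3 ^ k) ^ (3 - 2) * (a ^ 3 ^ k - 1)) ^ (Nat.totient (2 ^ i)) := by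
  -- reduce to base cases + doubling
  have key : ∀ c : ℕ, ∀ i₀ : ℕ, 1 ≤ i₀ → i₀ ≤ i →
      (2 ^ i₀ * 3 ^ (k + 1)) * (2 * (2 ^ i₀ * 3 ^ (k + 1)) + 1) < c ^ (2 ^ (i₀ - 1)) →
      c ≤ (a ^ 3 ^ k) ^ (3 - 2) * (a ^ 3 ^ k - 1) →
      (2 ^ i * 3 ^ (k + 1)) * (2 * (2 ^ i * 3 ^ (k + 1)) + 1) <
      ((a ^ 3 ^ k) ^ (3 - 2) * (a ^ 3 ^ k - 1)) ^ (Nat.totient (2 ^ i)) := by
    intro c i₀ h1 h2 hb hc
    rw [totient_two_pow (h1.trans h2)]
    exact lt_pow_mono (dbl_chain i₀ h1 hb i h2) hc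
  have key0 : i = 0 → ∀ c : ℕ, 3 ^ (k + 1) * (2 * 3 ^ (k + 1) + 1) < c →
      c ≤ (a ^ 3 ^ k) ^ (3 - 2) * (a ^ 3 ^ k - 1) →
      (2 ^ i * 3 ^ (k + 1)) * (2 * (2 ^ i * 3 ^ (k + 1)) + 1) <
      ((a ^ 3 ^ k) ^ (3 - 2) * (a ^ 3 ^ k - 1)) ^ (Nat.totient (2 ^ i)) := by
    intro hi c hb hc
    subst hi
    simp only [pow_zero, one_mul, Nat.totient_one, pow_one] at hb ⊢
    exact lt_of_lt_of_le hb (by simpa using hc)
  rcases Nat.lt_or_ge k 2 with hk | hk
  · interval_cases k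
    · -- k = 0 : Q = 3, y = a
      simp only [pow_zero, pow_one, zero_add] at hnot key key0 ⊢
      rcases Nat.eq_zero_or_pos i with hi0 | hi0
      · -- n = 3
        have ha6 : 6 ≤ a := by
          by_contra h
          subst hi0
          have : a < 6 := by omega
          interval_cases a <;> simp [smallPairs] at hnot
        exact key0 hi0 (6 ^ (3 - 2) * (6 - 1)) (by norm_num) (mono_c1 ha6)
      rcases Nat.lt_or_ge i 2 with hi2 | hi2
      · -- n = 6
        have hi1 : i = 1 := by omega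
        subst hi1
        have ha10 : 10 ≤ a := by
          by_contra h
          have : a < 10 := by omega
          interval_cases a <;> simp [smallPairs] at hnot
        exact key (10 ^ (3 - 2) * (10 - 1)) 1 le_rfl le_rfl (by norm_num) (mono_c1 ha10)
      rcases Nat.lt_or_ge a 5 with ha5 | ha5
      · rcases Nat.lt_or_ge a 3 with ha3 | ha3
        · -- a = 2
          have ha2 : a = 2 := by omega
          subst ha2
          have hi5 : 5 ≤ i := by
            by_contra h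
            have : i < 5 := by omega
            interval_cases i <;> simp [smallPairs] at hnot
          exact key (2 ^ (3 - 2) * (2 - 1)) 5 (by norm_num) hi5 (by norm_num) le_rfl
        · -- a ∈ {3, 4}
          have hi3 : 3 ≤ i := by
            by_contra h
            have : i = 2 := by omega
            subst this
            interval_cases a <;> simp [smallPairs] at hnot
          exact key (3 ^ (3 - 2) * (3 - 1)) 3 (by norm_num) hi3 (by norm_num) (mono_c1 ha3)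
      · exact key (5 ^ (3 - 2) * (5 - 1)) 2 (by norm_num) hi2 (by norm_num) (mono_c1 ha5)
    · -- k = 1 : Q = 9, y = a ^ 3
      simp only [pow_one] at hnot key key0 ⊢
      rcases Nat.lt_or_ge a 3 with ha3 | ha3
      · have ha2 : a = 2 := by omega
        subst ha2
        have hi2 : 2 ≤ i := by
          by_contra h
          have : i < 2 := by omega
          interval_cases i <;> simp [smallPairs] at hnot
        exact key ((2 ^ 3) ^ (3 - 2) * (2 ^ 3 - 1)) 2 (by norm_num) hi2 (by norm_num) le_rfl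
      · have hy : 3 ^ 3 ≤ a ^ 3 := Nat.pow_le_pow_left ha3 3
        rcases Nat.eq_zero_or_pos i with hi0 | hi0
        · exact key0 hi0 ((3 ^ 3) ^ (3 - 2) * (3 ^ 3 - 1)) (by norm_num) (mono_c1 hy)
        · exact key ((3 ^ 3) ^ (3 - 2) * (3 ^ 3 - 1)) 1 le_rfl hi0 (by norm_num) (mono_c1 hy)
  · -- k ≥ 2
    set x := 3 ^ k with hx
    have hx9 : 9 ≤ x := by
      calc 9 = 3 ^ 2 := by norm_num
        _ ≤ 3 ^ k := Nat.pow_le_pow_right (by norm_num) hk
    have hQ : 3 ^ (k + 1) = 3 * x := by rw [pow_succ, mul_comm]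
    have hy : 2 ^ x ≤ a ^ x := Nat.pow_le_pow_left ha x
    have hbig := three_big hx9
    have hc : (2 ^ x) ^ (3 - 2) * (2 ^ x - 1) ≤ (a ^ x) ^ (3 - 2) * (a ^ x - 1) := mono_c1 hy
    have hc' : (2 ^ x) ^ (3 - 2) * (2 ^ x - 1) = 2 ^ x * (2 ^ x - 1) := by norm_num
    rcases Nat.eq_zero_or_pos i with hi0 | hi0
    · apply key0 hi0 ((2 ^ x) ^ (3 - 2) * (2 ^ x - 1)) _ hc
      rw [hc', hQ]
      refine lt_trans ?_ hbig
      nlinarith
    · apply key ((2 ^ x) ^ (3 - 2) * (2 ^ x - 1)) 1 le_rfl hi0 _ hc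
      rw [hc', hQ]
      simp only [Nat.sub_self, pow_zero, pow_one]
      refine lt_of_eq_of_lt ?_ hbig
      ring

theorem two_pow_ge_lin' : ∀ j : ℕ, 4 ≤ j → 2 * j + 4 ≤ 2 ^ j := by
  intro j hj
  induction j, hj using Nat.le_induction with
  | base => norm_num
  | succ j hj ih => rw [pow_succ]; omega

theorem two_case {a j : ℕ} (ha : 2 ≤ a) (hj : 1 ≤ j) (hnot : (a, 2 ^ (j + 1)) ∉ smallPairs) :
    (2 ^ (j + 1)) * (2 * 2 ^ (j + 1) + 1) < ((a ^ 2 ^ j) ^ (2 - 2) * (a ^ 2 ^ j - 1)) ^ 1 := by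
  simp only [Nat.sub_self, pow_zero, one_mul, pow_one]
  rcases Nat.lt_or_ge j 4 with hj4 | hj4
  · interval_cases j
    · -- n = 4
      have ha7 : 7 ≤ a := by
        by_contra h
        have : a < 7 := by omega
        interval_cases a <;> simp [smallPairs] at hnot
      have : 7 ^ 2 ≤ a ^ 2 := Nat.pow_le_pow_left ha7 2
      norm_num at this ⊢
      omega
    · -- n = 8
      have ha4 : 4 ≤ a := by
        by_contra h
        have : a < 4 := by omega
        interval_cases a <;> simp [smallPairs] at hnot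
      have : 4 ^ 4 ≤ a ^ 4 := Nat.pow_le_pow_left ha4 4
      norm_num at this ⊢
      omega
    · -- n = 16
      have ha3 : 3 ≤ a := by
        by_contra h
        have : a = 2 := by omega
        subst this
        simp [smallPairs] at hnot
      have : 3 ^ 8 ≤ a ^ 8 := Nat.pow_le_pow_left ha3 8
      norm_num at this ⊢
      omega
  · have h1 := two_pow_ge_lin' j hj4
    have h2 : 2 ^ (2 * j + 4) ≤ 2 ^ 2 ^ j := Nat.pow_le_pow_right (by norm_num) h1
    have h3 : 2 ^ 2 ^ j ≤ a ^ 2 ^ j := Nat.pow_le_pow_left ha _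
    have h4 : 2 ^ (2 * j + 4) = 16 * (2 ^ j) ^ 2 := by
      rw [pow_add, mul_comm 2 j, pow_mul]; ring
    have h5 : 2 ^ (j + 1) = 2 * 2 ^ j := by rw [pow_succ, mul_comm]
    have h6 : 1 ≤ 2 ^ j := Nat.one_le_two_pow
    rw [h5]
    set t := 2 ^ j
    have h7 : 2 * t * (2 * (2 * t) + 1) + 1 < 16 * t ^ 2 := by nlinarith
    omega

/-- **Main inequality**: `n (2n+1) < Φ_n(a)` outside the 41 small pairs. -/
theorem lt_natCyc {a n : ℕ} (ha : 2 ≤ a) (hn : 3 ≤ n) (hnot : (a, n) ∉ smallPairs) :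
    n * (2 * n + 1) < natCyc n a := by
  by_cases h5 : ∃ r : ℕ, r.Prime ∧ 5 ≤ r ∧ r ∣ n
  · obtain ⟨r, hr, hr5, hrn⟩ := h5
    obtain ⟨e, m, hrm, hnm⟩ := Nat.exists_eq_pow_mul_and_not_dvd (by omega : n ≠ 0) r hr.ne_one
    have he : e ≠ 0 := by
      rintro rfl
      rw [pow_zero, one_mul] at hnm
      exact hrm (hnm ▸ hrn)
    obtain ⟨j, rfl⟩ : ∃ j, e = j + 1 := ⟨e - 1, by omega⟩
    have hnm' : n = m * r ^ (j + 1) := by rw [hnm, mul_comm]
    subst hnm'
    have hm0 : 0 < m := by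
      rcases Nat.eq_zero_or_pos m with h | h
      · rw [h, zero_mul] at hn; omega
      · exact h
    have hu1 : 1 ≤ m.totient := Nat.totient_pos.mpr hm0
    have hm2 : m ≤ 2 * m.totient ^ 2 := le_two_mul_totient_sq m hm0
    have hN := pow_le_natCyc hr hrm (by omega : 1 < a) j
    refine lt_of_lt_of_le ?_ hN
    by_cases hF : FF a r j m.totient
    · obtain ⟨hj, hcases⟩ := hF
      subst hj
      have hu5 : m.totient ≤ 5 := by
        rcases hcases with ⟨-, ⟨-, h⟩ | ⟨-, h⟩ | ⟨-, h⟩⟩ | ⟨-, -, h⟩ | ⟨-, -, h⟩ <;> omega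
      have hm50 : m ≤ 50 := by nlinarith
      have hmem := totient_le_five m hm50 hm0 hu5
      have ha_mem : a ∈ [2, 3, 4] := by
        rcases hcases with ⟨-, ⟨h, -⟩ | ⟨h, -⟩ | ⟨h, -⟩⟩ | ⟨-, h, -⟩ | ⟨-, h, -⟩ <;> simp [h]
      have hr_mem : r ∈ [5, 7, 11] := by
        rcases hcases with ⟨h, -⟩ | ⟨h, -⟩ | ⟨h, -⟩ <;> simp [h]
      have h := small_check a ha_mem r hr_mem m hmem hrm (by simpa using hnot)
      simpa using h
    · have hG := GG_lt_of_prime_ge_five ha hr hr5 hu1 hF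
      refine lt_of_le_of_lt ?_ hG
      rw [GG_eq]
      have h1 : m * r ^ (j + 1) ≤ 2 * (m.totient ^ 2 * r ^ (j + 1)) := by
        calc m * r ^ (j + 1) ≤ (2 * m.totient ^ 2) * r ^ (j + 1) := Nat.mul_le_mul_right _ hm2
          _ = 2 * (m.totient ^ 2 * r ^ (j + 1)) := by ring
      set A := m * r ^ (j + 1)
      set X := m.totient ^ 2 * r ^ (j + 1)
      exact Nat.mul_le_mul h1 (by omega)
  · push_neg at h5
    obtain ⟨i, m', hodd, hn2⟩ := Nat.exists_eq_two_pow_mul_odd (by omega : n ≠ 0)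
    have hm'0 : m' ≠ 0 := by
      rintro rfl
      exact absurd hodd (by decide)
    obtain ⟨k, m'', h3m, hm3⟩ := Nat.exists_eq_pow_mul_and_not_dvd hm'0 3 (by norm_num)
    have hm''1 : m'' = 1 := by
      by_contra hne
      obtain ⟨q, hq, hqm⟩ : ∃ q : ℕ, q.Prime ∧ q ∣ m'' :=
        ⟨_, Nat.minFac_prime hne, Nat.minFac_dvd _⟩
      have hqm' : q ∣ m' := by rw [hm3]; exact dvd_mul_of_dvd_right hqm _
      have hqn : q ∣ n := by rw [hn2]; exact dvd_mul_of_dvd_right hqm' _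
      have hq5 : q < 5 := by
        by_contra h
        exact h5 q hq (by omega) hqn
      have hq2 := hq.two_le
      interval_cases q
      · rcases hodd with ⟨t, ht⟩
        omega
      · exact h3m hqm
      · exact absurd hq (by norm_num)
    subst hm''1
    rw [mul_one] at hm3
    subst hm3
    subst hn2
    rcases Nat.eq_zero_or_pos k with hk | hk
    · subst hk
      simp only [pow_zero, mul_one] at hn hnot ⊢
      have hi2 : 2 ≤ i := by
        by_contra h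
        have : i < 2 := by omega
        interval_cases i <;> simp at hn
      obtain ⟨j, rfl⟩ : ∃ j, i = j + 1 := ⟨i - 1, by omega⟩
      have hN := pow_le_natCyc (m := 1) Nat.prime_two (by norm_num) (by omega : 1 < a) j
      rw [one_mul, Nat.totient_one] at hN
      refine lt_of_lt_of_le ?_ hN
      exact two_case ha (by omega) hnot
    · obtain ⟨k', rfl⟩ : ∃ k', k = k' + 1 := ⟨k - 1, by omega⟩
      have h32 : ¬ 3 ∣ 2 ^ i := by
        intro h
        have := Nat.Prime.dvd_of_dvd_pow Nat.prime_three h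
        omega
      have hN := pow_le_natCyc (m := 2 ^ i) Nat.prime_three h32 (by omega : 1 < a) k'
      refine lt_of_lt_of_le ?_ hN
      exact three_case ha hnot

end Cfsg.Agent.Lib.Helper8.Zsig
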