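import Mathlib

set_option autoImplicit false

namespace Cfsg.Agent.Lib.Helper8

open MulAction

/-- The stabilizer of a point in a subgroup `P` acting by restriction. -/
theorem stabilizer_subgroup_eq {G Ω : Type*} [Group G] [MulAction G Ω] (P : Subgroup G) (ω : Ω) :
    stabilizer P ω = (stabilizer G ω).subgroupOf P := by
  ext g
  rfl

/-- For a Sylow `p`-subgroup `P` of a finite group `G` acting on `Ω`, the full power of `p` dividing
the size of the `G`-orbit of `ω` divides the size of the `P`-orbit of `ω`. -/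
theorem pow_dvd_card_sylow_orbit {G Ω : Type*} [Group G] [Finite G] [MulAction G Ω]
    {p : ℕ} [Fact p.Prime] (P : Sylow p G) (ω : Ω) (k : ℕ)
    (hk : p ^ k ∣ (orbit G ω).ncard) : p ^ k ∣ (orbit (P : Subgroup G) ω).ncard := by
  rw [← index_stabilizer, stabilizer_subgroup_eq]
  rw [← index_stabilizer] at hk
  set S := stabilizer G ω with hS
  change p ^ k ∣ S.relIndex (P : Subgroup G)
  have h1 : (S ⊓ (P : Subgroup G)).relIndex (P : Subgroup G) * (P : Subgroup G).index =
      (S ⊓ (P : Subgroup G)).index := Subgroup.relIndex_mul_index inf_le_right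
  have h2 : (S ⊓ (P : Subgroup G)).relIndex S * S.index = (S ⊓ (P : Subgroup G)).index :=
    Subgroup.relIndex_mul_index inf_le_left
  rw [Subgroup.inf_relIndex_right] at h1
  have h3 : p ^ k ∣ S.relIndex (P : Subgroup G) * (P : Subgroup G).index := by
    rw [h1, ← h2]
    exact Dvd.dvd.mul_left hk _
  have hcop : Nat.Coprime (p ^ k) (P : Subgroup G).index := by
    apply Nat.Coprime.pow_left
    rw [Nat.Prime.coprime_iff_not_dvd (Fact.out : p.Prime)]
    exact P.not_dvd_index
  exact hcop.dvd_of_dvd_mul_right h3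

/-- A Sylow `p`-subgroup of a finite group acting transitively on a set of `p`-power size is
transitive. -/
theorem sylow_transitive_of_card_prime_pow {G Ω : Type*} [Group G] [Finite G] [MulAction G Ω]
    [Finite Ω] [IsPretransitive G Ω] {p : ℕ} [Fact p.Prime] (P : Sylow p G) (k : ℕ)
    (hΩ : Nat.card Ω = p ^ k) (ω ω' : Ω) : ∃ g ∈ (P : Subgroup G), g • ω = ω' := by
  have hdvd : p ^ k ∣ (orbit (P : Subgroup G) ω).ncard := by
    apply pow_dvd_card_sylow_orbit P ω k
    rw [orbit_eq_univ, Set.ncard_univ, hΩ]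
  have hpos : 0 < (orbit (P : Subgroup G) ω).ncard := by
    rw [Set.ncard_pos]
    exact ⟨ω, mem_orbit_self ω⟩
  have hle : (orbit (P : Subgroup G) ω).ncard ≤ Nat.card Ω := by
    rw [← Set.ncard_univ]
    exact Set.ncard_le_ncard (Set.subset_univ _)
  have heq : (orbit (P : Subgroup G) ω).ncard = Nat.card Ω := by
    apply le_antisymm hle
    rw [hΩ]
    exact Nat.le_of_dvd hpos hdvd
  have huniv : orbit (P : Subgroup G) ω = Set.univ := by
    apply Set.eq_of_subset_of_ncard_le (Set.subset_univ _)
    rw [Set.ncard_univ, heq]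
  have : ω' ∈ orbit (P : Subgroup G) ω := by rw [huniv]; trivial
  obtain ⟨g, hg⟩ := this
  exact ⟨g, g.2, hg⟩

end Cfsg.Agent.Lib.Helper8

namespace Cfsg.Agent.Lib.Helper8

open MulAction

/-- From a nontrivial element killed by a power of `p`, extract a nontrivial power killed by `p`. -/
theorem exists_pow_ne_one_of_pow_prime_pow {G : Type*} [Group G] {p : ℕ} (y : G) (hy : y ≠ 1)
    (h : ∃ k : ℕ, y ^ (p ^ k) = 1) : ∃ m : ℕ, y ^ m ≠ 1 ∧ (y ^ m) ^ p = 1 := by
  classical
  have hk0 : Nat.find h ≠ 0 := by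
    intro h0
    have := Nat.find_spec h
    rw [h0, pow_zero, pow_one] at this
    exact hy this
  obtain ⟨k, hk⟩ := Nat.exists_eq_succ_of_ne_zero hk0
  refine ⟨p ^ k, ?_, ?_⟩
  · exact Nat.find_min h (by omega)
  · have := Nat.find_spec h
    rw [hk, pow_succ, pow_mul] at this
    exact this

/-- A nontrivial finite `p`-group has a central element of order `p`. -/
theorem exists_central_orderOf_eq_prime {P : Type*} [Group P] [Finite P] [Nontrivial P] {p : ℕ}
    [Fact p.Prime] (hP : IsPGroup p P) : ∃ z : P, z ∈ Subgroup.center P ∧ orderOf z = p := by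
  have : Nontrivial (Subgroup.center P) := hP.center_nontrivial
  obtain ⟨y, hy⟩ := exists_ne (1 : Subgroup.center P)
  have hy' : (y : P) ≠ 1 := fun h => hy (Subtype.ext h)
  obtain ⟨m, hm1, hmp⟩ := exists_pow_ne_one_of_pow_prime_pow (p := p) (y : P) hy' (hP (y : P))
  exact ⟨(y : P) ^ m, (Subgroup.center P).pow_mem y.2 m, orderOf_eq_prime hmp hm1⟩

/-- If a finite group acts faithfully and transitively on a set of `p`-power size `> 1`, a central
element of order `p` of a Sylow `p`-subgroup is a derangement. -/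
theorem exists_derangement_orderOf_eq_prime {G Ω : Type*} [Group G] [Finite G] [MulAction G Ω]
    [FaithfulSMul G Ω] [Finite Ω] [IsPretransitive G Ω] {p : ℕ} [Fact p.Prime] (k : ℕ) (hk : 1 ≤ k)
    (hΩ : Nat.card Ω = p ^ k) : ∃ g : G, orderOf g = p ∧ ∀ ω : Ω, g • ω ≠ ω := by
  have hp : p.Prime := Fact.out
  have hne : Nonempty Ω := by
    have h : 0 < Nat.card Ω := by rw [hΩ]; exact pow_pos hp.pos k
    exact (Nat.card_pos_iff.mp h).1
  obtain ⟨ω₀⟩ := hne
  have hpG : p ∣ Nat.card G := by
    have h1 : (stabilizer G ω₀).index = Nat.card Ω := index_stabilizer_of_transitive G ω₀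
    have h2 : (stabilizer G ω₀).index ∣ Nat.card G := Subgroup.index_dvd_card _
    rw [h1, hΩ] at h2
    exact (dvd_pow_self p (by omega)).trans h2
  let P : Sylow p G := default
  have hPne : (P : Subgroup G) ≠ ⊥ := P.ne_bot_of_dvd_card hpG
  have : Nontrivial (P : Subgroup G) := (Subgroup.nontrivial_iff_ne_bot _).mpr hPne
  obtain ⟨z, hzc, hzo⟩ := exists_central_orderOf_eq_prime P.isPGroup'
  refine ⟨(z : G), by rw [Subgroup.orderOf_coe]; exact hzo, ?_⟩
  intro ω hω
  -- z fixes everything
  have hall : ∀ ω' : Ω, (z : G) • ω' = ω' := by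
    intro ω'
    obtain ⟨g, hg, rfl⟩ := sylow_transitive_of_card_prime_pow P k hΩ ω ω'
    have hcomm : (z : G) * g = g * (z : G) := by
      have := (Subgroup.mem_center_iff.mp hzc) ⟨g, hg⟩
      have h3 := congrArg Subtype.val this
      simpa using h3.symm
    rw [← mul_smul, hcomm, mul_smul, hω]
  have hz1 : (z : G) = 1 := by
    apply FaithfulSMul.eq_of_smul_eq_smul (α := Ω)
    intro a
    rw [hall a, one_smul]
  have : orderOf z = 1 := by
    rw [← Subgroup.orderOf_coe, hz1, orderOf_one]
  rw [hzo] at this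
  exact hp.one_lt.ne' this

end Cfsg.Agent.Lib.Helper8
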