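import Mathlib
import Cfsg.Agent.Lib.Helper8.SylowOrbit

set_option autoImplicit false

namespace Cfsg.Agent.Lib.Helper8

open MulAction

/-- A `p`-group acting on a finite set with `m * p` points, `m < p`, all of whose orbits have size
`p`, contains an element with no fixed point whose `p`-th power acts trivially. -/
theorem exists_fixedPointFree_of_orbits_prime {Q Ω : Type*} [Group Q] [Finite Q] [MulAction Q Ω]
    [Finite Ω] {p : ℕ} [Fact p.Prime] (hQ : IsPGroup p Q) (m : ℕ) (hm : m < p)
    (hΩ : Nat.card Ω = m * p) (horb : ∀ ω : Ω, (orbit Q ω).ncard = p) :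
    ∃ z : Q, (∀ ω : Ω, z • ω ≠ ω) ∧ ∀ ω : Ω, z ^ p • ω = ω := by
  classical
  have hp : p.Prime := Fact.out
  have : Fintype Q := Fintype.ofFinite Q
  have : Fintype Ω := Fintype.ofFinite Ω
  rcases isEmpty_or_nonempty Ω with hemp | ⟨⟨ω₀⟩⟩
  · exact ⟨1, fun ω => (hemp.false ω).elim, fun ω => (hemp.false ω).elim⟩
  -- index of stabilizers
  have hidx : ∀ ω : Ω, (stabilizer Q ω).index = p := fun ω => by
    rw [index_stabilizer, horb]
  -- |Q| = p ^ a with a ≥ 1
  obtain ⟨a, ha⟩ := (IsPGroup.iff_card).mp hQ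
  have ha1 : a ≠ 0 := by
    rintro rfl
    have h1 : (stabilizer Q ω₀).index ∣ Nat.card Q := Subgroup.index_dvd_card _
    rw [hidx, ha, pow_zero] at h1
    exact hp.one_lt.ne' (Nat.dvd_one.mp h1)
  have hminFac : (Nat.card Q).minFac = p := by
    rw [ha]; exact hp.pow_minFac ha1
  have hnormal : ∀ ω : Ω, (stabilizer Q ω).Normal := fun ω =>
    Subgroup.normal_of_index_eq_minFac_card (by rw [hidx, hminFac])
  -- elements of a stabilizer fix the whole orbit
  have hfixorb : ∀ (ω : Ω) (z : Q), z • ω = ω → ∀ g : Q, z • (g • ω) = g • ω := by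
    intro ω z hz g
    have hmem : z ∈ stabilizer Q ω := hz
    have hconj : g⁻¹ * z * g⁻¹⁻¹ ∈ stabilizer Q ω := (hnormal ω).conj_mem z hmem g⁻¹
    have h2 : (g⁻¹ * z * g⁻¹⁻¹) • ω = ω := hconj
    calc z • (g • ω) = g • ((g⁻¹ * z * g⁻¹⁻¹) • ω) := by
          simp only [inv_inv, smul_smul]; group
      _ = g • ω := by rw [h2]
  -- p-th powers act trivially
  have hpow : ∀ (z : Q) (ω : Ω), z ^ p • ω = ω := by
    intro z ω
    have := hnormal ω
    have := (stabilizer Q ω).pow_index_mem z
    rw [hidx] at this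
    exact this
  -- counting
  let fixF : Q → Finset Ω := fun z => Finset.univ.filter fun ω => z • ω = ω
  let T : Finset Q := Finset.univ.filter fun z => ∃ ω : Ω, z • ω = ω
  have hT : ∀ z ∈ T, p ≤ (fixF z).card := by
    intro z hz
    obtain ⟨ω, hω⟩ := (Finset.mem_filter.mp hz).2
    have hsub : (orbit Q ω).toFinset ⊆ fixF z := by
      intro ω' hω'
      rw [Set.mem_toFinset] at hω'
      obtain ⟨g, rfl⟩ := hω'
      simp only [fixF, Finset.mem_filter, Finset.mem_univ, true_and]
      exact hfixorb ω z hω g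
    have hcard : (orbit Q ω).toFinset.card = p := by
      rw [← Set.ncard_eq_toFinset_card', horb]
    rw [← hcard]
    exact Finset.card_le_card hsub
  have hsum : ∑ z : Q, (fixF z).card = ∑ ω : Ω, Fintype.card (stabilizer Q ω) := by
    have h1 : ∀ z : Q, (fixF z).card = ∑ ω : Ω, if z • ω = ω then 1 else 0 := by
      intro z; simp only [fixF, Finset.card_filter]
    have h2 : ∀ ω : Ω, Fintype.card (stabilizer Q ω) = ∑ z : Q, if z • ω = ω then 1 else 0 := by
      intro ω
      rw [← Finset.card_filter, Fintype.card_subtype]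
      rfl
    simp_rw [h1, h2]
    exact Finset.sum_comm
  have hstab : ∀ ω : Ω, Fintype.card (stabilizer Q ω) * p = Fintype.card Q := by
    intro ω
    have := Subgroup.card_mul_index (stabilizer Q ω)
    rw [hidx, Nat.card_eq_fintype_card, Nat.card_eq_fintype_card] at this
    exact this
  have htotal : (∑ z : Q, (fixF z).card) * p = m * p * Fintype.card Q := by
    rw [hsum, Finset.sum_mul]
    simp_rw [hstab]
    rw [Finset.sum_const, Finset.card_univ, smul_eq_mul, ← Nat.card_eq_fintype_card (α := Ω), hΩ]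
  have hTle : p * T.card ≤ ∑ z : Q, (fixF z).card := by
    calc p * T.card = ∑ _z ∈ T, p := by rw [Finset.sum_const, smul_eq_mul, mul_comm]
      _ ≤ ∑ z ∈ T, (fixF z).card := Finset.sum_le_sum hT
      _ ≤ ∑ z : Q, (fixF z).card := Finset.sum_le_sum_of_subset (Finset.subset_univ T)
  have hlt : T.card < Fintype.card Q := by
    have h1 : p * T.card * p ≤ m * p * Fintype.card Q := by
      rw [← htotal]; exact Nat.mul_le_mul_right p hTle
    have hQpos : 0 < Fintype.card Q := Fintype.card_pos
    have h2 : m * p * Fintype.card Q < p * p * Fintype.card Q := by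
      apply Nat.mul_lt_mul_of_pos_right _ hQpos
      exact Nat.mul_lt_mul_of_pos_right hm hp.pos
    have h3 : p * T.card * p < p * p * Fintype.card Q := lt_of_le_of_lt h1 h2
    have h4 : p * T.card * p = p * p * T.card := by ring
    rw [h4] at h3
    exact Nat.lt_of_mul_lt_mul_left h3
  have : ∃ z : Q, z ∉ T := by
    by_contra hall
    push Not at hall
    have : T = Finset.univ := Finset.eq_univ_iff_forall.mpr hall
    rw [this, Finset.card_univ] at hlt
    exact lt_irrefl _ hlt
  obtain ⟨z, hz⟩ := this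
  refine ⟨z, ?_, hpow z⟩
  intro ω hω
  apply hz
  exact Finset.mem_filter.mpr ⟨Finset.mem_univ _, ω, hω⟩

end Cfsg.Agent.Lib.Helper8
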