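import Cfsg.Agent.S0494
import Mathlib

set_option autoImplicit false

namespace Cfsg.Agent.Lib.Helper8

/-- A finite simple group which is a `p`-group is cyclic. -/
theorem isCyclic_of_isPGroup_of_simple {G : Type*} [Group G] [Finite G] [IsSimpleGroup G] {p : ℕ}
    [Fact p.Prime] (hG : IsPGroup p G) : IsCyclic G := by
  have hnt : Nontrivial G := IsSimpleGroup.toNontrivial
  have hc : Nontrivial (Subgroup.center G) := hG.center_nontrivial
  have hn : (Subgroup.center G).Normal := inferInstance
  rcases hn.eq_bot_or_eq_top with hb | ht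
  · exfalso
    exact (Subgroup.nontrivial_iff_ne_bot _).mp hc hb
  · let _ : CommGroup G := Group.commGroupOfCenterEqTop ht
    exact IsSimpleGroup.isCyclic

/-- **Sylow sieve** for a non-cyclic finite simple group `G` and a prime `p ∣ |G|`: the number
`d = n_p = |G : N(P)|` of Sylow `p`-subgroups satisfies `d ∣ |G|`, `d ≡ 1 mod p`, `d ≠ 1`,
`|G| ∣ d!`, and `|N(P)| = |G|/d` is neither `p` nor `p²` (Burnside's transfer theorem). -/
theorem sylow_sieve {G : Type*} [Group G] [Finite G] [IsSimpleGroup G]
    (hG : ¬ IsCyclic G) (p : ℕ) [Fact p.Prime] (hpn : p ∣ Nat.card G) :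
    ∃ d : ℕ, d = Nat.card (Sylow p G) ∧ d ∣ Nat.card G ∧ d % p = 1 ∧ d ≠ 1 ∧
      Nat.card G ∣ d.factorial ∧ Nat.card G / d ≠ p ∧ Nat.card G / d ≠ p ^ 2 := by
  classical
  have hp : p.Prime := Fact.out
  obtain ⟨P⟩ : Nonempty (Sylow p G) := inferInstance
  set N : Subgroup G := Subgroup.normalizer ((P : Subgroup G) : Set G) with hN
  have hPN : (P : Subgroup G) ≤ N := Subgroup.le_normalizer
  have hPne : (P : Subgroup G) ≠ ⊥ := P.ne_bot_of_dvd_card hpn
  have hd_dvd : N.index ∣ Nat.card G := Subgroup.index_dvd_card N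
  have hd_mod : N.index % p = 1 := by
    have h1 := card_sylow_modEq_one p G
    rw [Sylow.card_eq_index_normalizer P] at h1
    have h3 : 1 % p = 1 := Nat.mod_eq_of_lt hp.one_lt
    rw [Nat.ModEq, h3] at h1
    exact h1
  have hd_ne : N.index ≠ 1 := by
    intro h1
    have hNtop : N = ⊤ := Subgroup.index_eq_one.mp h1
    have hPn : (P : Subgroup G).Normal := Subgroup.normalizer_eq_top_iff.mp hNtop
    rcases hPn.eq_bot_or_eq_top with hb | ht
    · exact hPne hb
    · apply hG
      have hPG : IsPGroup p G := by
        have := P.isPGroup'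
        rw [ht] at this
        exact this.of_equiv Subgroup.topEquiv
      exact isCyclic_of_isPGroup_of_simple hPG
  have hNne : N ≠ ⊤ := fun ht => hd_ne (by rw [ht, Subgroup.index_top])
  have hfact := Cfsg.Agent.S0494.card_dvd_factorial_index N hNne
  have hNcard : Nat.card G / N.index = Nat.card N := by
    have := N.card_mul_index
    rw [← this]
    exact Nat.mul_div_cancel _ (Nat.pos_of_ne_zero (fun h0 => by rw [h0] at hd_mod; simp at hd_mod))
  have hnot : ¬ (Nat.card N = p ∨ Nat.card N = p ^ 2) := by
    intro hcases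
    have hNp : IsPGroup p N := by
      rcases hcases with h1 | h1
      · exact IsPGroup.of_card (n := 1) (by rw [h1, pow_one])
      · exact IsPGroup.of_card (n := 2) h1
    have hNP : N = (P : Subgroup G) := P.is_maximal' hNp hPN
    have hPcomm : ∀ a b : (P : Subgroup G), a * b = b * a := by
      rw [← hNP]
      rcases hcases with h1 | h1
      · have hcyc : IsCyclic N := isCyclic_of_prime_card h1
        let _ : CommGroup N := IsCyclic.commGroup
        exact mul_comm
      · exact (IsPGroup.isMulCommutative_of_card_eq_prime_sq (p := p) h1).is_comm.comm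
    have hNC : Subgroup.normalizer ((P : Subgroup G) : Set G) ≤
        Subgroup.centralizer ((P : Subgroup G) : Set G) := by
      intro x hx
      rw [← hN, hNP] at hx
      rw [Subgroup.mem_centralizer_iff]
      intro y hy
      exact congrArg Subtype.val (hPcomm ⟨y, hy⟩ ⟨x, hx⟩)
    have hcompl := MonoidHom.ker_transferSylow_isComplement' P hNC
    have hKn : (MonoidHom.transferSylow P hNC).ker.Normal := inferInstance
    have hcard := hcompl.card_mul
    rcases hKn.eq_bot_or_eq_top with hb | ht
    · rw [hb, Subgroup.card_bot, one_mul] at hcard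
      have : (P : Subgroup G) = ⊤ := Subgroup.eq_top_of_card_eq _ hcard
      apply hNne
      rw [hNP, this]
    · rw [ht, Subgroup.card_top] at hcard
      have h1 : Nat.card (P : Subgroup G) = 1 := by
        have hpos : 0 < Nat.card G := Nat.card_pos
        exact Nat.eq_of_mul_eq_mul_left hpos (by rw [mul_one]; exact hcard)
      exact hPne (Subgroup.card_eq_one.mp h1)
  refine ⟨N.index, (Sylow.card_eq_index_normalizer P).symm, hd_dvd, hd_mod, hd_ne, hfact, ?_, ?_⟩
  · rw [hNcard]; exact fun h => hnot (Or.inl h)
  · rw [hNcard]; exact fun h => hnot (Or.inr h)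

end Cfsg.Agent.Lib.Helper8
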