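import Mathlib

set_option autoImplicit false

namespace Cfsg.Agent.Lib.Helper8

/-- Commutators commute with `subgroupOf` for subgroups contained in the ambient subgroup. -/
theorem map_subtype_commutator_subgroupOf {G : Type*} [Group G] (Y H K : Subgroup G)
    (hH : H ≤ Y) (hK : K ≤ Y) :
    (⁅H.subgroupOf Y, K.subgroupOf Y⁆ : Subgroup Y).map Y.subtype = ⁅H, K⁆ := by
  rw [Subgroup.map_commutator, Subgroup.map_subgroupOf_eq_of_le hH,
    Subgroup.map_subgroupOf_eq_of_le hK]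

/-- **Three subgroups lemma modulo `N`**: if `H₁, H₂, H₃` normalize `N` and
`[[H₂,H₃],H₁] ≤ N`, `[[H₃,H₁],H₂] ≤ N` then `[[H₁,H₂],H₃] ≤ N`. -/
theorem three_subgroups_mod {G : Type*} [Group G] (H₁ H₂ H₃ N : Subgroup G)
    (h₁ : H₁ ≤ Subgroup.normalizer (N : Set G)) (h₂ : H₂ ≤ Subgroup.normalizer (N : Set G))
    (h₃ : H₃ ≤ Subgroup.normalizer (N : Set G))
    (h1 : ⁅⁅H₂, H₃⁆, H₁⁆ ≤ N) (h2 : ⁅⁅H₃, H₁⁆, H₂⁆ ≤ N) : ⁅⁅H₁, H₂⁆, H₃⁆ ≤ N := by
  set Y : Subgroup G := Subgroup.normalizer (N : Set G) with hY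
  have hNY : N ≤ Y := Subgroup.le_normalizer
  have hNn : (N.subgroupOf Y).Normal := by
    rw [hY]; exact Subgroup.normal_in_normalizer
  set q : Y →* Y ⧸ N.subgroupOf Y := QuotientGroup.mk' (N.subgroupOf Y) with hq
  -- general fact: for subgroups A B C ≤ Y, image of [[A',B'],C'] in quotient is ⊥ iff [[A,B],C] ≤ N
  have key : ∀ A B C : Subgroup G, A ≤ Y → B ≤ Y → C ≤ Y →
      (⁅⁅(A.subgroupOf Y).map q, (B.subgroupOf Y).map q⁆, (C.subgroupOf Y).map q⁆ = ⊥ ↔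
        ⁅⁅A, B⁆, C⁆ ≤ N) := by
    intro A B C hA hB hC
    rw [← Subgroup.map_commutator, ← Subgroup.map_commutator, Subgroup.map_eq_bot_iff, hq,
      QuotientGroup.ker_mk']
    have e : (⁅⁅A.subgroupOf Y, B.subgroupOf Y⁆, C.subgroupOf Y⁆ : Subgroup Y).map Y.subtype =
        ⁅⁅A, B⁆, C⁆ := by
      rw [Subgroup.map_commutator, Subgroup.map_commutator, Subgroup.map_subgroupOf_eq_of_le hA,
        Subgroup.map_subgroupOf_eq_of_le hB, Subgroup.map_subgroupOf_eq_of_le hC]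
    rw [← e, Subgroup.map_le_iff_le_comap]
    rfl
  rw [← key H₁ H₂ H₃ h₁ h₂ h₃]
  apply Subgroup.commutator_commutator_eq_bot_of_rotate
  · rw [key H₂ H₃ H₁ h₂ h₃ h₁]; exact h1
  · rw [key H₃ H₁ H₂ h₃ h₁ h₂]; exact h2

end Cfsg.Agent.Lib.Helper8
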