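import Mathlib

set_option autoImplicit false

/-!
A strengthening of Bertrand's postulate (helper8): for `n ≥ 6` there are two primes in `(n, 2n]`;
for `n ≥ 5`, `n ≠ 6, 10`, there are primes `p < q ≤ n` with `n < 2p`.
The proof adapts Mathlib's proof of Bertrand's postulate.
-/

namespace Cfsg.Agent.Lib.Helper8

/-- Variant of Mathlib's bound on the central binomial coefficient: exactly one prime in `(n, 2n]`. -/
theorem centralBinom_le_of_one_prime (n : ℕ) (n_large : 2 < n) (q : ℕ) (hq : q.Prime)
    (hq1 : n < q) (hq2 : q ≤ 2 * n)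
    (uniq : ∀ p : ℕ, p.Prime → n < p → p ≤ 2 * n → p = q) :
    Nat.centralBinom n ≤ (2 * n) ^ Nat.sqrt (2 * n) * 4 ^ (2 * n / 3) := by
  have n_pos : 0 < n := by omega
  have n2_pos : 1 ≤ 2 * n := by omega
  let f : ℕ → ℕ := fun x => x ^ n.centralBinom.factorization x
  have hqnot : q ∉ Finset.range (2 * n / 3 + 1) := by
    rw [Finset.mem_range]; omega
  have h1 : Nat.centralBinom n = (∏ p ∈ Finset.range (2 * n / 3 + 1), f p) * f q := by
    rw [mul_comm, ← Finset.prod_insert hqnot]
    refine (Eq.trans ?_ n.prod_pow_factorization_centralBinom).symm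
    apply Finset.prod_subset
    · intro x hx
      rw [Finset.mem_insert] at hx
      rw [Finset.mem_range]
      rcases hx with rfl | hx
      · omega
      · rw [Finset.mem_range] at hx; omega
    intro x hx h2x
    rw [Finset.mem_range, Nat.lt_succ_iff] at hx
    rw [Finset.mem_insert, not_or, Finset.mem_range, Nat.lt_succ_iff, not_le] at h2x
    obtain ⟨hxq, h2x⟩ := h2x
    by_cases hxp : x.Prime
    · by_cases hxn : x ≤ n
      · have h3 : 2 * n < 3 * x := by omega
        show x ^ n.centralBinom.factorization x = 1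
        rw [Nat.factorization_centralBinom_of_two_mul_self_lt_three_mul n_large hxn h3, pow_zero]
      · exact absurd (uniq x hxp (by omega) hx) hxq
    · show x ^ n.centralBinom.factorization x = 1
      rw [Nat.factorization_eq_zero_of_not_prime n.centralBinom hxp, pow_zero]
  have hfq : f q ≤ 2 * n := by
    have hle : n.centralBinom.factorization q ≤ 1 := by
      rw [Nat.centralBinom_eq_two_mul_choose]
      apply Nat.factorization_choose_le_one
      nlinarith
    calc f q = q ^ n.centralBinom.factorization q := rfl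
      _ ≤ q ^ 1 := Nat.pow_le_pow_right hq.pos hle
      _ = q := pow_one q
      _ ≤ 2 * n := hq2
  let S := {p ∈ Finset.range (2 * n / 3 + 1) | Nat.Prime p}
  have hS : ∏ x ∈ S, f x = ∏ x ∈ Finset.range (2 * n / 3 + 1), f x := by
    refine Finset.prod_filter_of_ne fun p _ h => ?_
    contrapose h; dsimp only [f]
    rw [Nat.factorization_eq_zero_of_not_prime n.centralBinom h, pow_zero]
  have hsqrt_pos : 1 ≤ Nat.sqrt (2 * n) := by
    rw [Nat.le_sqrt]; omega
  have h2 : ∏ p ∈ Finset.range (2 * n / 3 + 1), f p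
      ≤ (2 * n) ^ (Nat.sqrt (2 * n) - 1) * 4 ^ (2 * n / 3) := by
    rw [← hS, ← Finset.prod_filter_mul_prod_filter_not S (· ≤ Nat.sqrt (2 * n))]
    apply mul_le_mul'
    · refine (Finset.prod_le_prod' fun p _ => (?_ : f p ≤ 2 * n)).trans ?_
      · exact Nat.pow_factorization_choose_le (mul_pos two_pos n_pos)
      have : (Finset.Icc 2 (Nat.sqrt (2 * n))).card = Nat.sqrt (2 * n) - 1 := by
        rw [Nat.card_Icc]; omega
      rw [Finset.prod_const]
      refine pow_right_mono₀ n2_pos ((Finset.card_le_card fun x hx => ?_).trans this.le)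
      obtain ⟨h1, h2⟩ := Finset.mem_filter.1 hx
      exact Finset.mem_Icc.mpr ⟨(Finset.mem_filter.1 h1).2.two_le, h2⟩
    · refine le_trans ?_ (primorial_le_four_pow (2 * n / 3))
      refine (Finset.prod_le_prod' fun p hp => (?_ : f p ≤ p)).trans ?_
      · obtain ⟨h1, h2⟩ := Finset.mem_filter.1 hp
        refine (pow_right_mono₀ (Finset.mem_filter.1 h1).2.one_lt.le ?_).trans (pow_one p).le
        exact Nat.factorization_choose_le_one (Nat.sqrt_lt'.mp <| not_le.1 h2)
      refine Finset.prod_le_prod_of_subset_of_one_le' (Finset.filter_subset _ _) ?_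
      exact fun p hp _ => (Finset.mem_filter.1 hp).2.one_lt.le
  rw [h1]
  calc (∏ p ∈ Finset.range (2 * n / 3 + 1), f p) * f q
      ≤ ((2 * n) ^ (Nat.sqrt (2 * n) - 1) * 4 ^ (2 * n / 3)) * (2 * n) := Nat.mul_le_mul h2 hfq
    _ = (2 * n) ^ (Nat.sqrt (2 * n) - 1 + 1) * 4 ^ (2 * n / 3) := by ring
    _ = (2 * n) ^ Nat.sqrt (2 * n) * 4 ^ (2 * n / 3) := by
        rw [Nat.sub_add_cancel hsqrt_pos]

/-- Two primes in `(n, 2n]` for large `n`. -/
theorem exists_two_primes_large (n : ℕ) (n_large : 512 ≤ n) :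
    ∃ p q : ℕ, p.Prime ∧ q.Prime ∧ n < p ∧ p < q ∧ q ≤ 2 * n := by
  by_contra hcon
  push Not at hcon
  obtain ⟨q, hq, hq1, hq2⟩ := Nat.exists_prime_lt_and_le_two_mul n (by omega)
  have uniq : ∀ p : ℕ, p.Prime → n < p → p ≤ 2 * n → p = q := by
    intro p hp h1 h2
    rcases lt_trichotomy p q with h | h | h
    · exact absurd (hcon p q hp hq h1 h) (by omega)
    · exact h
    · exact absurd (hcon q p hq hp hq1 h) (by omega)
  have no_prime : 4 ^ n < n * n.centralBinom :=
    Nat.four_pow_lt_mul_centralBinom n (by omega)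
  have h1 : n.centralBinom ≤ (2 * n) ^ Nat.sqrt (2 * n) * 4 ^ (2 * n / 3) :=
    centralBinom_le_of_one_prime n (by omega) q hq hq1 hq2 uniq
  have h2 := bertrand_main_inequality n_large
  have h3 : n * n.centralBinom ≤ n * ((2 * n) ^ Nat.sqrt (2 * n) * 4 ^ (2 * n / 3)) :=
    Nat.mul_le_mul_left n h1
  rw [← mul_assoc] at h3
  omega

theorem two_primes_of_range (a p q : ℕ) (hp : p.Prime) (hq : q.Prime) (hpq : p < q)
    (hq2 : q ≤ 2 * a) (n : ℕ) (h1 : a ≤ n) (h2 : n < p) :
    ∃ p q : ℕ, p.Prime ∧ q.Prime ∧ n < p ∧ p < q ∧ q ≤ 2 * n :=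
  ⟨p, q, hp, hq, h2, hpq, by omega⟩

/-- Two primes in `(n, 2n]` for `n ≥ 6`. -/
theorem exists_two_primes (n : ℕ) (hn : 6 ≤ n) :
    ∃ p q : ℕ, p.Prime ∧ q.Prime ∧ n < p ∧ p < q ∧ q ≤ 2 * n := by
  rcases le_or_gt 512 n with h | h
  · exact exists_two_primes_large n h
  rcases lt_or_ge n 7 with h7 | h7
  · exact two_primes_of_range 6 7 11 (by norm_num) (by norm_num) (by norm_num) (by norm_num) n hn h7
  rcases lt_or_ge n 11 with h11 | h11
  · exact two_primes_of_range 7 11 13 (by norm_num) (by norm_num) (by norm_num) (by norm_num) n h7 h11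
  rcases lt_or_ge n 17 with h17 | h17
  · exact two_primes_of_range 11 17 19 (by norm_num) (by norm_num) (by norm_num) (by norm_num) n h11 h17
  rcases lt_or_ge n 29 with h29 | h29
  · exact two_primes_of_range 17 29 31 (by norm_num) (by norm_num) (by norm_num) (by norm_num) n h17 h29
  rcases lt_or_ge n 47 with h47 | h47
  · exact two_primes_of_range 29 47 53 (by norm_num) (by norm_num) (by norm_num) (by norm_num) n h29 h47
  rcases lt_or_ge n 83 with h83 | h83
  · exact two_primes_of_range 47 83 89 (by norm_num) (by norm_num) (by norm_num) (by norm_num) n h47 h83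
  rcases lt_or_ge n 157 with h157 | h157
  · exact two_primes_of_range 83 157 163 (by norm_num) (by norm_num) (by norm_num) (by norm_num) n h83 h157
  rcases lt_or_ge n 307 with h307 | h307
  · exact two_primes_of_range 157 307 311 (by norm_num) (by norm_num) (by norm_num) (by norm_num) n h157 h307
  · exact two_primes_of_range 307 601 607 (by norm_num) (by norm_num) (by norm_num) (by norm_num) n h307 (by omega)

/-- Two primes `p < q ≤ n` with `n < 2p`, for `n ≥ 5`, `n ≠ 6, 10`. -/
theorem exists_primes_upper_half (n : ℕ) (hn : 5 ≤ n) (h6 : n ≠ 6) (h10 : n ≠ 10) :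
    ∃ p q : ℕ, p.Prime ∧ q.Prime ∧ p < q ∧ q ≤ n ∧ n < 2 * p := by
  rcases lt_or_ge n 12 with h | h
  · interval_cases n
    · exact ⟨3, 5, by norm_num, by norm_num, by norm_num, by norm_num, by norm_num⟩
    · exact absurd rfl h6
    · exact ⟨5, 7, by norm_num, by norm_num, by norm_num, by norm_num, by norm_num⟩
    · exact ⟨5, 7, by norm_num, by norm_num, by norm_num, by norm_num, by norm_num⟩
    · exact ⟨5, 7, by norm_num, by norm_num, by norm_num, by norm_num, by norm_num⟩
    · exact absurd rfl h10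
    · exact ⟨7, 11, by norm_num, by norm_num, by norm_num, by norm_num, by norm_num⟩
  · obtain ⟨p, q, hp, hq, h1, h2, h3⟩ := exists_two_primes (n / 2) (by omega)
    exact ⟨p, q, hp, hq, h2, by omega, by omega⟩

end Cfsg.Agent.Lib.Helper8
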